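import Mathlib
import Cfsg.Agent.Grp.SymplecticType
import Cfsg.Agent.Class.C6.Base

/-!
Absolutely irreducible 2-groups of symplectic type in dimension four and their normalisers.
-/

set_option autoImplicit false

namespace Cfsg.Agent.Class.C6

open Cfsg Matrix Subgroup
open scoped commutatorElement

section Grp

theorem comm_of_symplectic {G : Type*} [Group G] [Finite G] [Nontrivial G] (hG : IsPGroup 2 G)
    (hs : ∀ A : Subgroup G, A.Characteristic → IsMulCommutative A → IsCyclic A)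
    (h4 : ∀ x : G, x ^ 4 = 1) :
    ∃ z ∈ center G, orderOf z = 2 ∧ ∀ x y : G, x * y = y * x ∨ x * y = z * (y * x) := by
  classical
  obtain ⟨z, E, hz, hE, h1, h2, h3⟩ := Grp.SympT.exists_decomp hG hs
  have h5 : ∀ x : centralizer (E : Set G), orderOf x ≤ 4 := fun x =>
    orderOf_le_of_pow_eq_one (by decide) (Subtype.ext (h4 x))
  have h6 : IsCyclic (centralizer (E : Set G)) := by
    rcases h3 with h3 | ⟨-, h7, ⟨m, ⟨e⟩⟩ | ⟨m, ⟨e⟩⟩ | ⟨n, hn, -, x, -, hx, -⟩⟩
    · exact h3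
    · have := h5 (e.symm (.r 1))
      rw [e.symm.orderOf_eq, DihedralGroup.orderOf_r_one] at this
      rw [Nat.card_congr e.toEquiv, DihedralGroup.nat_card] at h7
      omega
    · have := h5 (e.symm (.a 1))
      rw [e.symm.orderOf_eq, QuaternionGroup.orderOf_a_one] at this
      rcases Nat.eq_zero_or_pos m with rfl | hm
      · have := Finite.of_equiv _ e.toEquiv
        exact absurd (Finite.of_injective (QuaternionGroup.a (n := 0)) fun _ _ h => by
          injection h) (not_finite_iff_infinite.2 (inferInstanceAs (Infinite ℤ)))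
      have := NeZero.mk hm.ne'
      rw [Nat.card_congr e.toEquiv, Nat.card_eq_fintype_card, QuaternionGroup.card] at h7
      omega
    · have := (Nat.pow_le_pow_right two_pos hn).trans (hx ▸ h5 x)
      omega
  have h7 : ∀ c ∈ centralizer (E : Set G), c ∈ center G := fun c hc => mem_center_iff.2 fun g => by
    have : E ⊔ centralizer (E : Set G) ≤ centralizer {c} := sup_le
      (fun e he => mem_centralizer_singleton_iff.2 (hc e he)) fun d hd =>
        mem_centralizer_singleton_iff.2 (congrArg Subtype.val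
          (h6.commGroup.mul_comm (⟨d, hd⟩ : centralizer (E : Set G)) ⟨c, hc⟩))
    exact mem_centralizer_singleton_iff.1 (this (h2 ▸ mem_top g))
  have := Grp.SympT.normal_zpowers hz
  have h8 : ∀ x g : G, ⁅x, g⁆ ∈ zpowers z := fun x g => by
    have h9 : E ⊔ centralizer (E : Set G) ≤ (center _).comap (QuotientGroup.mk' (zpowers z)) := by
      refine sup_le (fun e he => mem_center_iff.2 fun g => ?_) fun c hc => mem_center_iff.2 fun g => ?_
      all_goals obtain ⟨g, rfl⟩ := QuotientGroup.mk'_surjective _ g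
      · rw [eq_comm, ← commutatorElement_eq_one_iff_mul_comm, ← map_commutatorElement]
        exact (QuotientGroup.eq_one_iff _).2 (h1 e he g)
      · rw [← map_mul, ← map_mul, mem_center_iff.1 (h7 c hc)]
    have := mem_center_iff.1 (h9 (h2 ▸ mem_top x)) (QuotientGroup.mk' _ g)
    rw [eq_comm, ← commutatorElement_eq_one_iff_mul_comm, ← map_commutatorElement] at this
    exact (QuotientGroup.eq_one_iff _).1 this
  refine ⟨z, hz, hE.ord, fun x y => ?_⟩
  obtain ⟨k, hk, e⟩ := (mem_zpowers_iff_mem_range_orderOf.1 (h8 x y)) |> Finset.mem_image.1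
  rw [hE.ord, Finset.mem_range] at hk
  have e' : x * y = z ^ k * (y * x) := by rw [e, commutatorElement_def]; group
  interval_cases k
  · exact Or.inl (by simpa using e')
  · exact Or.inr (by simpa using e')

variable {G : Type*} [Group G] [Finite G]

theorem card_modEq_fixed {H : Subgroup G} {y : G} {r : ℕ} (hr : r.Prime) (hy : y ^ r = 1)
    (h : ∀ x ∈ H, y * x * y⁻¹ ∈ H) :
    Nat.card H ≡ Nat.card (H ⊓ centralizer {y} : Subgroup G) [MOD r] := by
  classical
  have := Fact.mk hr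
  have := Fintype.ofFinite H
  let f : Function.End H := fun x => ⟨y * x * y⁻¹, h x x.2⟩
  have h1 : ∀ k : ℕ, ∀ x : H, ((f ^ k) x : G) = y ^ k * x * (y ^ k)⁻¹ := fun k => by
    induction k with
    | zero => intro x; simp; rfl
    | succ k ih =>
      intro x
      rw [pow_succ]
      refine (ih (f x)).trans ?_
      simp only [f]
      group
  have h2 := Equiv.Perm.card_fixedPoints_modEq (f := f) (p := r) (n := 1)
    (funext fun x => Subtype.ext (by rw [pow_one, h1, hy]; simp; rfl))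
  rw [← Nat.card_eq_fintype_card, ← Nat.card_eq_fintype_card] at h2
  convert h2 using 1
  refine Nat.card_congr ⟨fun x => ⟨⟨x, x.2.1⟩, Subtype.ext ?_⟩, fun x => ⟨x.1, x.1.2, ?_⟩,
    fun _ => rfl, fun _ => rfl⟩
  · exact mul_inv_eq_iff_eq_mul.2 (mem_centralizer_singleton_iff.1 x.2.2).symm
  · exact mem_centralizer_singleton_iff.2 (mul_inv_eq_iff_eq_mul.1 (congrArg Subtype.val x.2)).symm

end Grp

variable {F : Type*} [Field F] {ι : Type} [Fintype ι] [DecidableEq ι] {R : Subgroup (GL ι F)}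

/-- The centre of `R` inside the general linear group. -/
def zc (R : Subgroup (GL ι F)) : Subgroup (GL ι F) := R ⊓ centralizer (R : Set (GL ι F))

theorem card_zc (R : Subgroup (GL ι F)) : Nat.card (zc R) = Nat.card (center R) := by
  rw [← card_map_of_injective R.subtype_injective]
  congr 2
  ext x
  exact ⟨fun h => ⟨⟨x, h.1⟩, mem_center_iff.2 fun g => Subtype.ext (h.2 g g.2), rfl⟩,
    by rintro ⟨x, hx, rfl⟩; exact ⟨x.2, fun g hg => congrArg Subtype.val (mem_center_iff.1 hx ⟨g, hg⟩)⟩⟩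

/-- The basic properties of the groups `2^(1+4)` and `4 ∘ 2^(1+4)` in dimension four. -/
structure TwoG (R : Subgroup (GL ι F)) : Prop where
  two : (2 : F) ≠ 0
  dim : Fintype.card ι = 4
  comm : ∀ x ∈ R, ∀ y ∈ R, x * y = y * x ∨ x * y = -(y * x)
  cent : ∀ A : Matrix ι ι F, (∀ y ∈ R, A * y = y * A) → ∃ c : F, A = c • 1
  neg : -1 ∈ R
  four : ∀ x ∈ R, x ^ 4 = 1
  card : Nat.card R = 16 * Nat.card (zc R)
  pow : ∃ k, Nat.card (zc R) = 2 ^ k

theorem twoG_of [Finite F] (h2 : (2 : F) ≠ 0) (hd : Fintype.card ι = 4)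
    (hs : Geo.IsSymplecticTypeGroup 2 R) (hi : Geo.ActsAbsolutelyIrreducibly (Geo.matrixSet R))
    {k : ℕ} (h1 : Nat.card R = 16 * 2 ^ k) (hZ : Nat.card (center R) = 2 ^ k) : TwoG R := by
  have : Nontrivial R := Finite.one_lt_card_iff_nontrivial.1 (by
    have := Nat.two_pow_pos k
    omega)
  have h4 : ∀ x : R, x ^ 4 = 1 := fun x => by
    have := Monoid.pow_exponent_eq_one x
    rwa [hs.exponent_eq] at this
  have hc : ∀ A : Matrix ι ι F, (∀ y ∈ R, A * y = y * A) → ∃ c : F, A = c • 1 := fun A hA =>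
    hi.2 A (by rintro _ ⟨s, hs, rfl⟩; exact hA s hs)
  obtain ⟨z, hz, h3, h5⟩ := comm_of_symplectic hs.pGroup hs.cyclic_of_characteristic h4
  have : Nonempty ι := Fintype.card_pos_iff.1 (by omega)
  have h6 : z.1 = -1 := by
    obtain ⟨c, hc⟩ := hc z.1 fun y hy =>
      congrArg (fun u : R => (u.1 : Matrix ι ι F)) (mem_center_iff.1 hz ⟨y, hy⟩).symm
    have h7 := congrArg (fun u : R => (u.1 : Matrix ι ι F)) (h3 ▸ pow_orderOf_eq_one z)
    have h8 : c ^ 2 = 1 := smul_inj_of_unit (u := (1 : GL ι F)) (by simpa [hc, smul_pow] using h7)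
    rcases sq_eq_one_iff.1 h8 with rfl | rfl
    · rw [show z = 1 from Subtype.ext (Units.ext (by simpa using hc))] at h3
      simp at h3
    · exact Units.ext (by simpa using hc)
  refine ⟨h2, hd, fun x hx y hy => ?_, hc, h6 ▸ z.2, fun x hx => congrArg Subtype.val (h4 ⟨x, hx⟩),
    by rw [card_zc, h1, hZ], k, by rw [card_zc, hZ]⟩
  simpa [Subtype.ext_iff, h6] using h5 ⟨x, hx⟩ ⟨y, hy⟩

namespace TwoG

variable (h : TwoG R)
include h

theorem nonempty : Nonempty ι := Fintype.card_pos_iff.1 (by rw [h.dim]; decide)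

theorem nice : Nice R 2 :=
  ⟨fun x hx y hy => (h.comm x hx y hy).elim
    (fun e => ⟨1, one_pow _, by simpa using congrArg Units.val e⟩)
    fun e => ⟨-1, by simp, by simpa using congrArg Units.val e⟩, h.cent⟩

theorem ne_neg (x : GL ι F) : x ≠ -x := fun e => by
  have := h.nonempty
  have h1 : (1 : F) = -1 := smul_inj_of_unit (u := x) (by simpa using congrArg Units.val e)
  exact h.two (by linear_combination h1)

theorem not_comm {x y : GL ι F} (e : x * y = -(y * x)) : x * y ≠ y * x := fun e' =>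
  h.ne_neg _ (e'.symm.trans e)

theorem neg_mem {x : GL ι F} (hx : x ∈ R) : -x ∈ R := by simpa using R.mul_mem h.neg hx

theorem scalar_of_zc {x : GL ι F} (hx : x ∈ zc R) : ∃ c : F, (x : Matrix ι ι F) = c • 1 :=
  h.cent _ fun y hy => congrArg Units.val (hx.2 y hy).symm

omit h in
theorem zc_of_scalar {x : GL ι F} (hx : x ∈ R) {c : F} (hc : (x : Matrix ι ι F) = c • 1) :
    x ∈ zc R := ⟨hx, fun y _ => Units.ext (by simp [hc])⟩

theorem exists_anti {x : GL ι F} (hx : x ∈ R) (h1 : x ∉ zc R) : ∃ y ∈ R, x * y = -(y * x) := by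
  by_contra e
  exact h1 ⟨hx, fun y hy => ((h.comm x hx y hy).resolve_right fun e' => e ⟨y, hy, e'⟩).symm⟩

theorem sq {x : GL ι F} (hx : x ∈ R) : x * x = 1 ∨ x * x = -1 := by
  have := h.nonempty
  obtain ⟨c, hc⟩ := h.scalar_of_zc (x := x * x) ⟨R.mul_mem hx hx, fun y hy => by
    rcases h.comm x hx y hy with e | e <;>
      rw [mul_assoc, e] <;> simp only [mul_neg, ← mul_assoc, e, neg_mul, neg_neg]⟩
  have h1 := congrArg Units.val (h.four x hx)
  rw [show x ^ 4 = (x * x) ^ 2 by simp [pow_succ, mul_assoc], Units.val_pow_eq_pow_val, hc] at h1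
  have h8 : c ^ 2 = 1 := smul_inj_of_unit (u := (1 : GL ι F)) (by simpa [smul_pow] using h1)
  rcases sq_eq_one_iff.1 h8 with rfl | rfl
  · exact Or.inl (Units.ext (by simpa using hc))
  · exact Or.inr (Units.ext (by simpa using hc))

theorem trace_eq_zero {A : Matrix ι ι F} {y : GL ι F} (e : A * y = -(y * A)) : A.trace = 0 := by
  have h1 : (A * y * (y⁻¹ : GL ι F)).trace = -A.trace := by
    rw [e, neg_mul, trace_neg, trace_mul_cycle, Units.inv_mul, one_mul]
  rw [mul_assoc, Units.mul_inv, mul_one] at h1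
  exact (mul_eq_zero.1 (by linear_combination h1)).resolve_left h.two

theorem card_half {H : Subgroup (GL ι F)} (hH : H ≤ R) {x a : GL ι F} (hx : x ∈ R) (ha : a ∈ H)
    (e : a * x = -(x * a)) : Nat.card H = 2 * Nat.card (H ⊓ centralizer {x} : Subgroup _) := by
  have h1 : ((centralizer {x}).subgroupOf H).index = 2 := index_eq_two_iff.2 ⟨⟨a, ha⟩, fun b => by
    simp only [mem_subgroupOf, mem_centralizer_singleton_iff, coe_mul]
    rcases h.comm b (hH b.2) x hx with e' | e'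
    · refine Or.inr ⟨e', h.not_comm ?_⟩
      rw [mul_assoc, e, mul_neg, ← mul_assoc, e', mul_assoc]
    · refine Or.inl ⟨?_, h.not_comm e'⟩
      rw [mul_assoc, e, mul_neg, ← mul_assoc, e', neg_mul, neg_neg, mul_assoc]⟩
  rw [← ((centralizer {x}).subgroupOf H).index_mul_card, h1, ← inf_subgroupOf_right, inf_comm,
    Nat.card_congr (subgroupOfEquivOfLe inf_le_left).toEquiv]

theorem exists_adjust {x y g : GL ι F} (hx : x ∈ R) (hy : y ∈ R) (e : x * y = -(y * x))
    (hg : g ∈ R) : ∃ u ∈ R, (∀ T : Matrix ι ι F, T * x = x * T → T * y = y * T → T * u = u * T) ∧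
      g * u * x = x * (g * u) ∧ g * u * y = y * (g * u) := by
  have e' : y * x = -(x * y) := by rw [e, neg_neg]
  rcases h.comm g hg x hx with e1 | e1 <;> rcases h.comm g hg y hy with e2 | e2
  · exact ⟨1, R.one_mem, by simp, by simpa, by simpa⟩
  · refine ⟨x, hx, fun _ h _ => h, by rw [e1, mul_assoc, e1], ?_⟩
    rw [mul_assoc, e, mul_neg, ← mul_assoc, e2, neg_mul, neg_neg, mul_assoc]
  · refine ⟨y, hy, fun _ _ h => h, ?_, by rw [e2, mul_assoc, e2]⟩
    rw [mul_assoc, e', mul_neg, ← mul_assoc, e1, neg_mul, neg_neg, mul_assoc]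
  · refine ⟨x * y, R.mul_mem hx hy, fun T h1 h2 => ?_, ?_, ?_⟩
    · rw [Units.val_mul, ← mul_assoc, h1, mul_assoc, h2, mul_assoc]
    · rw [mul_assoc, mul_assoc, e', ← mul_assoc x g, ← neg_neg (x * g), ← e1]
      simp [mul_assoc]
    · rw [← mul_assoc y g, ← neg_neg (y * g), ← e2, neg_mul, mul_assoc g y, ← mul_assoc y, e']
      simp [mul_assoc]

variable [Finite F]

theorem exists_basis : ∃ x ∈ R, ∃ y ∈ R, ∃ z ∈ R, ∃ w ∈ R, x * y = -(y * x) ∧ z * w = -(w * z) ∧
    z * x = x * z ∧ z * y = y * z ∧ w * x = x * w ∧ w * y = y * w ∧ ∀ T : Matrix ι ι F,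
      T * x = x * T → T * y = y * T → T * z = z * T → T * w = w * T → ∃ c : F, T = c • 1 := by
  have h0 : 0 < Nat.card (zc R) := Nat.card_pos
  have key : ∀ H : Subgroup (GL ι F), Nat.card (zc R) < Nat.card H → ∃ x ∈ H, x ∉ zc R :=
    fun H hH => by
      by_contra e
      push Not at e
      exact (card_le_of_le (H := H) (K := zc R) e).not_gt hH
  obtain ⟨x, hx, h1⟩ := key R (by rw [h.card]; omega)
  obtain ⟨y, hy, e1⟩ := h.exists_anti hx h1
  have c1 := h.card_half le_rfl hx hy (by rw [e1, neg_neg])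
  have c2 := h.card_half (H := R ⊓ centralizer {x}) inf_le_left hy
    ⟨hx, mem_centralizer_singleton_iff.2 rfl⟩ e1
  obtain ⟨z, ⟨⟨hz, z1⟩, z2⟩, h2⟩ := key (R ⊓ centralizer {x} ⊓ centralizer {y})
    (by have := h.card; omega)
  obtain ⟨w', hw', e2⟩ := h.exists_anti hz h2
  replace z1 := mem_centralizer_singleton_iff.1 z1
  replace z2 := mem_centralizer_singleton_iff.1 z2
  obtain ⟨u, hu, u1, u2, u3⟩ := h.exists_adjust hx hy e1 hw'
  have e3 : z * (w' * u) = -(w' * u * z) := by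
    rw [← mul_assoc, e2, neg_mul, mul_assoc, mul_assoc]
    congr 2
    exact Units.ext (u1 z (congrArg Units.val z1) (congrArg Units.val z2))
  have hw := R.mul_mem hw' hu
  generalize w' * u = w at hw u2 u3 e3
  refine ⟨x, hx, y, hy, z, hz, w, hw, e1, e3, z1, z2, u2, u3, fun T t1 t2 t3 t4 => h.cent T fun g hg => ?_⟩
  have c3 := h.card_half (H := R ⊓ centralizer {x} ⊓ centralizer {y}) (inf_le_left.trans inf_le_left)
    hz ⟨⟨hw, mem_centralizer_singleton_iff.2 u2⟩, mem_centralizer_singleton_iff.2 u3⟩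
    (by rw [e3, neg_neg])
  have c4 := h.card_half (H := R ⊓ centralizer {x} ⊓ centralizer {y} ⊓ centralizer {z})
    (inf_le_left.trans (inf_le_left.trans inf_le_left)) hw ⟨⟨⟨hz, mem_centralizer_singleton_iff.2 z1⟩,
      mem_centralizer_singleton_iff.2 z2⟩, mem_centralizer_singleton_iff.2 rfl⟩ e3
  have c5 : zc R = R ⊓ centralizer {x} ⊓ centralizer {y} ⊓ centralizer {z} ⊓ centralizer {w} :=
    eq_of_le_of_card_ge (fun s hs => ⟨⟨⟨⟨hs.1, mem_centralizer_singleton_iff.2 (hs.2 x hx).symm⟩,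
      mem_centralizer_singleton_iff.2 (hs.2 y hy).symm⟩,
      mem_centralizer_singleton_iff.2 (hs.2 z hz).symm⟩,
      mem_centralizer_singleton_iff.2 (hs.2 w hw).symm⟩) (by have := h.card; omega)
  obtain ⟨a, ha, a1, a2, a3⟩ := h.exists_adjust hx hy e1 hg
  obtain ⟨b, hb, b1, b2, b3⟩ := h.exists_adjust hz hw e3 (R.mul_mem hg ha)
  have b4 : x * b = b * x := Units.ext (b1 x (congrArg Units.val z1.symm) (congrArg Units.val u2.symm))
  have b5 : y * b = b * y := Units.ext (b1 y (congrArg Units.val z2.symm) (congrArg Units.val u3.symm))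
  obtain ⟨c, hc⟩ := h.scalar_of_zc (x := g * a * b) (c5 ▸ ⟨⟨⟨⟨R.mul_mem (R.mul_mem hg ha) hb,
    mem_centralizer_singleton_iff.2 (by rw [mul_assoc, ← b4, ← mul_assoc, a2, mul_assoc])⟩,
    mem_centralizer_singleton_iff.2 (by rw [mul_assoc, ← b5, ← mul_assoc, a3, mul_assoc])⟩,
    mem_centralizer_singleton_iff.2 b2⟩, mem_centralizer_singleton_iff.2 b3⟩)
  rw [← Units.mul_left_inj a, ← Units.mul_left_inj b, mul_assoc _ T, a1 T t1 t2, mul_assoc, mul_assoc,
    mul_assoc, mul_assoc, b1 T t3 t4, ← mul_assoc, ← mul_assoc, ← mul_assoc, ← mul_assoc,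
    ← Units.val_mul, ← Units.val_mul, mul_assoc, mul_assoc, ← Units.val_mul, ← Units.val_mul,
    ← mul_assoc, hc]
  simp

theorem card_fixed {y : GL ι F} (hy : y ∈ normalizer (R : Set (GL ι F))) {r : ℕ} (hr : r.Prime)
    (h2 : r ≠ 2) (hyr : y ^ r = 1) (hns : ∀ c : F, (y : Matrix ι ι F) ≠ c • 1) :
    (Nat.card (R ⊓ centralizer {y} : Subgroup _) = Nat.card (zc R) ∧ (r = 3 ∨ r = 5)) ∨
      (Nat.card (R ⊓ centralizer {y} : Subgroup _) = 4 * Nat.card (zc R) ∧ r = 3) := by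
  have hy' := fun x => (mem_normalizer_iff.1 hy x).1
  have h0 : 0 < Nat.card (zc R) := Nat.card_pos
  have h1 := card_modEq_fixed hr hyr hy'
  have h3 : zc R ≤ R ⊓ centralizer {y} := fun s hs => by
    obtain ⟨c, hc⟩ := h.scalar_of_zc hs
    exact ⟨hs.1, mem_centralizer_singleton_iff.2 (Units.ext (by simp [hc]))⟩
  obtain ⟨j, hj⟩ := card_dvd_of_le h3
  have h4 := card_dvd_of_le (inf_le_left : R ⊓ centralizer {y} ≤ R)
  rw [hj, h.card, mul_comm 16, Nat.mul_dvd_mul_iff_left h0] at h4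
  have h5 : ∀ k, r ∣ k * Nat.card (zc R) → r ∣ k := fun k hk => by
    obtain ⟨e, he⟩ := h.pow
    exact ((Nat.coprime_primes hr Nat.prime_two).2 h2).pow_right e |>.dvd_of_dvd_mul_right (he ▸ hk)
  have h6 : r ∣ 16 - j := h5 _ (by
    rw [Nat.sub_mul, ← h.card, mul_comm j, ← hj]
    exact (Nat.modEq_iff_dvd' (card_le_of_le inf_le_left)).1 h1.symm)
  have h7 : ∀ a b c d : ℕ, r ∣ 2 ^ a * 3 ^ b * 5 ^ c → (b ≠ 0 ∧ r = 3) ∨ (c ≠ 0 ∧ r = 5) :=
    fun a b c _ e => by
      rcases (Nat.Prime.dvd_mul hr).1 e with e | e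
      · rcases (Nat.Prime.dvd_mul hr).1 e with e | e
        · exact absurd ((Nat.prime_dvd_prime_iff_eq hr Nat.prime_two).1 (hr.dvd_of_dvd_pow e)) h2
        · exact Or.inl ⟨by rintro rfl; exact hr.one_lt.ne' (by simpa using e),
            (Nat.prime_dvd_prime_iff_eq hr Nat.prime_three).1 (hr.dvd_of_dvd_pow e)⟩
      · exact Or.inr ⟨by rintro rfl; exact hr.one_lt.ne' (by simpa using e),
          (Nat.prime_dvd_prime_iff_eq hr Nat.prime_five).1 (hr.dvd_of_dvd_pow e)⟩
  obtain ⟨i, hi, rfl⟩ := (Nat.dvd_prime_pow Nat.prime_two (m := 4)).1 h4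
  interval_cases i
  · exact Or.inl ⟨by simpa using hj, (h7 0 1 1 0 h6).imp (·.2) (·.2)⟩
  · exfalso
    obtain ⟨u, hu, u1⟩ : ∃ u ∈ R ⊓ centralizer {y}, u ∉ zc R := by
      by_contra e
      push Not at e
      have := card_le_of_le (H := R ⊓ centralizer {y}) (K := zc R) e
      omega
    obtain ⟨v, hv, e1⟩ := h.exists_anti hu.1 u1
    have u2 := mem_centralizer_singleton_iff.1 hu.2
    have c1 := h.card_half le_rfl hu.1 hv (by rw [e1, neg_neg])
    have c2 := card_modEq_fixed (H := R ⊓ centralizer {u}) hr hyr fun x hx => ⟨hy' x hx.1,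
      have e : y ∈ centralizer {u} := mem_centralizer_singleton_iff.2 u2.symm
      Subgroup.mul_mem _ (Subgroup.mul_mem _ e hx.2) (Subgroup.inv_mem _ e)⟩
    have c3 : R ⊓ centralizer {y} ≤ centralizer {u} := fun a ha => by
      refine mem_centralizer_singleton_iff.2 ((h.comm a ha.1 u hu.1).resolve_right fun e => ?_)
      have c4 := h.card_half inf_le_left hu.1 ha e
      have c5 : zc R = R ⊓ centralizer {y} ⊓ centralizer {u} := eq_of_le_of_card_ge
        (fun s hs => ⟨h3 hs, mem_centralizer_singleton_iff.2 (hs.2 u hu.1).symm⟩) (by omega)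
      exact u1 (c5 ▸ ⟨hu, mem_centralizer_singleton_iff.2 rfl⟩)
    rw [inf_right_comm, inf_eq_left.2 c3] at c2
    have c6 := (Nat.modEq_iff_dvd' (card_le_of_le inf_le_left)).1 (c2.trans h1.symm)
    rw [show Nat.card R - Nat.card (R ⊓ centralizer {u} : Subgroup _) = 8 * Nat.card (zc R) by
      have := h.card; omega] at c6
    simpa using h7 3 0 0 0 (h5 _ c6)
  · exact Or.inr ⟨by rw [hj, mul_comm]; rfl, by simpa using h7 2 1 0 0 h6⟩
  · simpa using h7 3 0 0 0 h6
  · have h8 : R ⊓ centralizer {y} = R := eq_of_le_of_card_ge inf_le_left (by rw [hj, h.card]; omega)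
    obtain ⟨c, hc⟩ := h.cent y fun x hx =>
      congrArg Units.val (mem_centralizer_singleton_iff.1 (h8.ge hx).2).symm
    exact absurd hc (hns c)

theorem trace_formula {y : GL ι F} (hy : y ∈ normalizer (R : Set (GL ι F))) {r : ℕ} (hr : Odd r)
    (hyr : y ^ r = 1) {j : ℕ} (hj : Nat.card (R ⊓ centralizer {y} : Subgroup _) = j * Nat.card (zc R)) :
    y.1.trace * (y⁻¹ : GL ι F).1.trace = j := by
  classical
  have := Fintype.ofFinite R
  have := h.nonempty
  obtain ⟨c, hc⟩ := h.cent (∑ g : R, (g.1⁻¹ * y * g.1).1) fun x hx => by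
    rw [Finset.sum_mul, Finset.mul_sum]
    refine Fintype.sum_equiv (Equiv.mulRight (⟨x, hx⟩ : R)) _ _ fun g => ?_
    rw [← Units.val_mul, ← Units.val_mul]
    congr 1
    simp [mul_assoc]
  have h1 := congrArg trace hc
  have h2 := congrArg (fun A => trace (A * (y⁻¹ : GL ι F).1)) hc
  simp only [trace_sum, Units.val_mul, trace_units_conj', Finset.sum_const, Finset.card_univ,
    trace_smul, trace_one, h.dim, smul_eq_mul, nsmul_eq_mul] at h1
  simp only [Finset.sum_mul, trace_sum, smul_mul_assoc, one_mul, trace_smul, smul_eq_mul] at h2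
  have h3 : ∀ g : R, ((g.1⁻¹ * y * g.1).1 * (y⁻¹ : GL ι F).1).trace =
      if g.1 * y = y * g then 4 else 0 := fun g => by
    rw [← Units.val_mul]
    split_ifs with e
    · rw [mul_assoc _ y, ← e, inv_mul_cancel_left, mul_inv_cancel, Units.val_one, trace_one, h.dim]
      rfl
    have hk : (g.1⁻¹ * y * g * y⁻¹) ∈ R := by
      rw [mul_assoc _ y, mul_assoc]
      exact R.mul_mem (R.inv_mem g.2) ((mem_normalizer_iff.1 hy _).1 g.2)
    by_cases e1 : (g.1⁻¹ * y * g * y⁻¹) ∈ zc R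
    swap
    · obtain ⟨w, -, e2⟩ := h.exists_anti hk e1
      exact h.trace_eq_zero (congrArg Units.val e2)
    obtain ⟨ζ, hζ⟩ := h.scalar_of_zc e1
    have e2 : y.1 * g.1.1 = ζ • (g.1.1 * y.1) := by
      rw [← smul_mul_assoc, ← mul_one g.1.1, ← mul_smul_comm, ← hζ, mul_one, ← Units.val_mul,
        ← Units.val_mul, ← Units.val_mul]
      congr 1
      group
    have e3 : ∀ k : ℕ, y.1 ^ k * g.1.1 = ζ ^ k • (g.1.1 * y.1 ^ k) := fun k => by
      induction k with
      | zero => simp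
      | succ k ih => rw [pow_succ, mul_assoc, e2, mul_smul_comm, ← mul_assoc, ih, smul_mul_assoc,
          smul_smul, mul_assoc, ← pow_succ, ← pow_succ']
    have e4 : ζ ^ r = 1 := smul_inj_of_unit (u := g.1) (by
      simpa [← Units.val_pow_eq_pow_val, hyr] using (e3 r).symm)
    have e5 : ζ ^ 4 = 1 := smul_inj_of_unit (u := (1 : GL ι F)) (by
      simpa only [Units.val_pow_eq_pow_val, hζ, smul_pow, one_pow, Units.val_one, one_smul] using
        congrArg Units.val (h.four _ hk))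
    have e6 : ζ = 1 := by
      have := pow_gcd_eq_one.2 ⟨e4, e5⟩
      rwa [(hr.coprime_two_right.pow_right 2 : r.Coprime 4), pow_one] at this
    exact absurd (Units.ext (by simpa [e6] using e2.symm)) e
  have h4 : (Finset.univ.filter fun g : R => g.1 * y = y * g).card = j * Nat.card (zc R) := by
    rw [← hj, ← Fintype.card_subtype, ← Nat.card_eq_fintype_card]
    exact Nat.card_congr ⟨fun g => ⟨g.1, g.1.2, mem_centralizer_singleton_iff.2 g.2⟩,
      fun g => ⟨⟨g.1, g.2.1⟩, mem_centralizer_singleton_iff.1 g.2.2⟩, fun _ => rfl, fun _ => rfl⟩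
  simp only [h3, ← Finset.sum_filter, Finset.sum_const, h4, nsmul_eq_mul] at h2
  rw [← Nat.card_eq_fintype_card, h.card] at h1
  obtain ⟨k, hk⟩ := h.pow
  rw [hk] at h1 h2
  generalize (y⁻¹ : GL ι F).1.trace = t at h2 ⊢
  push_cast at h1 h2
  refine mul_left_cancel₀ (pow_ne_zero (k + 4) h.two) ?_
  linear_combination t * h1 - 4 * h2

omit [Finite F] in
theorem not_zc {a b : GL ι F} (hb : b ∈ R) (e : a * b = -(b * a)) : a ∉ zc R := fun ha =>
  h.not_comm e (ha.2 b hb).symm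

theorem two_le_card {H : Subgroup (GL ι F)} (h1 : -1 ∈ H) : 2 ≤ Nat.card H :=
  Finite.one_lt_card_iff_nontrivial.2 ⟨⟨1, ⟨_, h1⟩, fun e => h.ne_neg 1 (congrArg Subtype.val e)⟩⟩

theorem not_minus (hm : Geo.IsOfMinusType 2 R) {u v : GL ι F} (hu : u ∈ R) (hv : v ∈ R)
    (u2 : u * u = 1) (v2 : v * v = 1) (e : u * v = v * u) (h1 : u ∉ zc R) (h2 : v ∉ zc R)
    (h3 : u * v ∉ zc R) : False := by
  let S : Set R := {⟨-1, h.neg⟩, ⟨u, hu⟩, ⟨v, hv⟩}
  have hS : ∀ x ∈ S, ∀ y ∈ S, x * y = y * x := by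
    rintro x (rfl | rfl | rfl) y (rfl | rfl | rfl) <;> exact Subtype.ext (by simp [e])
  have hc := isMulCommutative_closure hS
  have h4 := hm (closure S) hc fun x hx => by
    induction hx using closure_induction with
    | mem x hx => rcases hx with rfl | rfl | rfl <;> exact Subtype.ext (by simp [u2, v2])
    | one => simp
    | mul x y hx hy ihx ihy =>
      have := congrArg Subtype.val (hc.is_comm.comm ⟨x, hx⟩ ⟨y, hy⟩)
      simp only [coe_mul] at this
      rw [mul_assoc, ← mul_assoc y, ← this, mul_assoc, ihy, mul_one, ihx]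
    | inv x hx ih => rw [← _root_.mul_inv_rev, ih, inv_one]
  rw [← card_map_of_injective R.subtype_injective] at h4
  have a0 : (closure S).map R.subtype ≤ R := map_subtype_le _
  have a1 : -1 ∈ (closure S).map R.subtype := ⟨_, subset_closure (Or.inl rfl), rfl⟩
  have a2 : u ∈ (closure S).map R.subtype := ⟨_, subset_closure (Or.inr (Or.inl rfl)), rfl⟩
  have a3 : v ∈ (closure S).map R.subtype := ⟨_, subset_closure (Or.inr (Or.inr rfl)), rfl⟩
  generalize (closure S).map R.subtype = A at h4 a0 a1 a2 a3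
  obtain ⟨s, hs, e1⟩ := h.exists_anti hu h1
  have c1 := h.card_half a0 hs a2 e1
  obtain ⟨w, hw, w1⟩ : ∃ w ∈ A ⊓ centralizer {s}, w ∉ zc R := by
    rcases h.comm v hv s hs with e2 | e2
    · exact ⟨v, ⟨a3, mem_centralizer_singleton_iff.2 e2⟩, h2⟩
    · exact ⟨u * v, ⟨A.mul_mem a2 a3, mem_centralizer_singleton_iff.2 (by
        rw [mul_assoc, e2, mul_neg, ← mul_assoc, e1, neg_mul, neg_neg, mul_assoc])⟩, h3⟩
  obtain ⟨t, ht, e2⟩ := h.exists_anti (a0 hw.1) w1
  have c2 := h.card_half (inf_le_left.trans a0) ht hw e2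
  have c3 := h.two_le_card (H := A ⊓ centralizer {s} ⊓ centralizer {t})
    ⟨⟨a1, mem_centralizer_singleton_iff.2 (by simp)⟩, mem_centralizer_singleton_iff.2 (by simp)⟩
  omega

theorem card_fixed_ne (hm : Geo.IsOfMinusType 2 R) (hZ : Nat.card (zc R) = 2) {u y : GL ι F}
    (hu : u ∈ R) (u2 : u * u = 1) (h1 : u ∉ zc R) (hy : y ∈ normalizer (R : Set (GL ι F)))
    (hy3 : y ^ 3 = 1) : Nat.card (R ⊓ centralizer {y} : Subgroup _) ≠ Nat.card (zc R) := fun e => by
  have hy' := fun x => (mem_normalizer_iff.1 hy x).1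
  have h3 : zc R = R ⊓ centralizer {y} := eq_of_le_of_card_ge (fun s hs => by
    obtain ⟨c, hc⟩ := h.scalar_of_zc hs
    exact ⟨hs.1, mem_centralizer_singleton_iff.2 (Units.ext (by simp [hc]))⟩) e.le
  have h4 : ∀ s ∈ zc R, s = 1 ∨ s = -1 := fun s hs => by
    have h5 : zpowers (-1 : GL ι F) = zc R := eq_of_le_of_card_ge
      (zpowers_le.2 ⟨h.neg, fun _ _ => by simp⟩) (hZ ▸ h.two_le_card (mem_zpowers _))
    obtain ⟨k, rfl⟩ := mem_zpowers_iff.1 (h5.ge hs)
    rcases Int.even_or_odd k with e | e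
    · exact Or.inl e.neg_one_zpow
    · exact Or.inr e.neg_one_zpow
  have h5 : ∀ x ∈ R, y * x * y⁻¹ = x ∨ y * x * y⁻¹ = -x → x ∈ zc R := fun x hx e => by
    refine h3.ge ⟨hx, mem_centralizer_singleton_iff.2 ?_⟩
    rcases e with e | e
    · exact (mul_inv_eq_iff_eq_mul.1 e).symm
    · have e1 : y ^ 3 * x * (y ^ 3)⁻¹ = y * (y * (y * x * y⁻¹) * y⁻¹) * y⁻¹ := by
        simp [pow_succ, mul_assoc]
      simp only [e, mul_neg, neg_mul, neg_neg, hy3, one_mul, inv_one, mul_one] at e1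
      exact absurd e1 (h.ne_neg x)
  have h6 : ∀ x, x * x = 1 → y * x * y⁻¹ * (y * x * y⁻¹) = 1 := fun x e => by
    simp [mul_assoc, ← mul_assoc x x, e]
  have h7 : y * (y * (y * u * y⁻¹) * y⁻¹) * y⁻¹ = u := by
    have e1 : y ^ 3 * u * (y ^ 3)⁻¹ = y * (y * (y * u * y⁻¹) * y⁻¹) * y⁻¹ := by
      simp [pow_succ, mul_assoc]
    simpa [hy3] using e1.symm
  have hv := hy' u hu
  have hw := hy' _ hv
  have v2 := h6 u u2
  have w2 := h6 _ v2
  have h8 : y * u * y⁻¹ ∉ zc R := fun e => h1 (by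
    rcases h4 _ e with e | e
    · exact (by simpa [mul_inv_eq_iff_eq_mul] using e : u = 1) ▸ one_mem _
    · rw [mul_inv_eq_iff_eq_mul, neg_mul, one_mul, ← mul_neg_one, mul_right_inj] at e
      exact e ▸ ⟨h.neg, fun _ _ => by simp⟩)
  have h9 : u * (y * u * y⁻¹) ∉ zc R := fun e => h1 (h5 u hu (by
    rcases h4 _ e with e | e
    · exact Or.inl (mul_left_cancel (e.trans u2.symm))
    · exact Or.inr (mul_left_cancel (a := u) (by rw [e, mul_neg, u2]))))
  have h10 : y * (u * (y * u * y⁻¹) * (y * (y * u * y⁻¹) * y⁻¹)) * y⁻¹ =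
      (y * u * y⁻¹) * (y * (y * u * y⁻¹) * y⁻¹) * u := by
    conv_rhs => enter [2]; rw [← h7]
    simp [mul_assoc]
  generalize y * u * y⁻¹ = v at hv hw v2 w2 h8 h9 h10
  generalize y * v * y⁻¹ = w at hw w2 h10
  have h11 : u * v * w ∈ zc R := h5 _ (R.mul_mem (R.mul_mem hu hv) hw) (by
    rw [h10, mul_assoc u]
    exact (h.comm _ (R.mul_mem hv hw) u hu))
  have h12 : u * v * (u * v) = 1 := by
    rcases h4 _ h11 with e | e
    · rw [mul_right_cancel (e.trans w2.symm), w2]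
    · rw [mul_right_cancel (b := w) (show u * v * w = -w * w by rw [e, neg_mul, w2]), neg_mul_neg, w2]
  refine h.not_minus hm hu hv u2 v2 ?_ h1 h8 h9
  rw [← mul_right_inj (u * v), h12, mul_assoc, ← mul_assoc v, v2, one_mul, u2]

end TwoG

/-- Four elements of order four forming a chain. -/
structure Chain (R : Subgroup (GL ι F)) (a b c d : GL ι F) : Prop where
  ma : a ∈ R
  mb : b ∈ R
  mc : c ∈ R
  md : d ∈ R
  sa : a * a = -1
  sb : b * b = -1
  sc : c * c = -1
  sd : d * d = -1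
  ab : b * a = -(a * b)
  bc : c * b = -(b * c)
  cd : d * c = -(c * d)
  ac : c * a = a * c
  ad : d * a = a * d
  bd : d * b = b * d
  cent : ∀ T : Matrix ι ι F, T * a = a * T → T * b = b * T → T * c = c * T → T * d = d * T →
    ∃ z : F, T = z • 1

theorem comm_of_mul_left {T : Matrix ι ι F} {u v : GL ι F} (h1 : T * u = u * T)
    (h2 : T * (u * v : GL ι F) = (u * v : GL ι F) * T) : T * v = v * T := by
  rw [← Units.mul_right_inj u, ← mul_assoc, ← h1, mul_assoc, ← Units.val_mul, h2, Units.val_mul,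
    mul_assoc]

theorem TwoG.exists_chain_four [Finite F] (h : TwoG R) (hZ : Nat.card (zc R) = 4) :
    ∃ i ∈ zc R, i * i = -1 ∧ ∃ a b c d, Chain R a b c d := by
  obtain ⟨i, hi, i2⟩ : ∃ i ∈ zc R, i * i = -1 := by
    by_contra e
    have := h.nonempty
    have h1 : zc R ≤ zpowers (-1) := fun s hs => by
      obtain ⟨c, hc⟩ := h.scalar_of_zc hs
      have h2 := congrArg Units.val ((h.sq hs.1).resolve_right fun e' => e ⟨s, hs, e'⟩)
      have h8 : c * c = 1 := smul_inj_of_unit (u := (1 : GL ι F)) (by simpa [hc, smul_smul] using h2)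
      rcases mul_self_eq_one_iff.1 h8 with rfl | rfl
      · rw [show s = 1 from Units.ext (by simpa using hc)]
        exact one_mem _
      · rw [show s = -1 from Units.ext (by simpa using hc)]
        exact mem_zpowers _
    have h2 := card_le_of_le h1
    have h3 := orderOf_le_of_pow_eq_one (x := (-1 : GL ι F)) two_pos (by simp)
    rw [Nat.card_zpowers] at h2
    omega
  refine ⟨i, hi, i2, ?_⟩
  obtain ⟨ι0, hι⟩ := h.scalar_of_zc hi
  have ic : ∀ g : GL ι F, g * i = i * g := fun g => Units.ext (by simp [hι])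
  have ic' : ∀ g x : GL ι F, g * (i * x) = i * (g * x) := fun g x => by rw [← mul_assoc, ic, mul_assoc]
  have key : ∀ x ∈ R, ∃ u, (u = 1 ∨ u = i) ∧ u * x * (u * x) = -1 := fun x hx =>
    (h.sq hx).elim (fun e => ⟨i, Or.inr rfl, by rw [mul_assoc, ic' x, ← mul_assoc, i2, e, mul_one]⟩)
      fun e => ⟨1, Or.inl rfl, by simpa using e⟩
  have key' : ∀ x ∈ R, ∃ x' ∈ R, x' * x' = -1 ∧ (∀ g, g * x = x * g → g * x' = x' * g) ∧
      (∀ g, g * x = -(x * g) → g * x' = -(x' * g)) ∧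
      ∀ T : Matrix ι ι F, T * x' = x' * T → T * x = x * T := fun x hx => by
    obtain ⟨u, rfl | rfl, e⟩ := key x hx
    · exact ⟨x, hx, by simpa using e, fun _ => id, fun _ => id, fun _ => id⟩
    · exact ⟨u * x, R.mul_mem hi.1 hx, e, fun g e => by rw [ic', e, mul_assoc],
        fun g e => by rw [ic', e, mul_assoc, mul_neg], fun T => comm_of_mul_left (by simp [hι])⟩
  obtain ⟨x, hx, y, hy, z, hz, w, hw, e1, e2, e3, e4, e5, e6, e7⟩ := h.exists_basis
  obtain ⟨x', hx', x1, x2, x3, x4⟩ := key' x hx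
  obtain ⟨y', hy', y1, y2, y3, y4⟩ := key' y hy
  obtain ⟨z', hz', z1, z2, z3, z4⟩ := key' z hz
  obtain ⟨w', hw', w1, w2, w3, w4⟩ := key' w hw
  have f1 : y' * x' = -(x' * y') := x3 _ (by rw [y3 _ e1, neg_neg])
  have f2 : w' * z' = -(z' * w') := z3 _ (by rw [w3 _ e2, neg_neg])
  have f3 : z' * x' = x' * z' := x2 _ (z2 _ e3.symm).symm
  have f4 : z' * y' = y' * z' := y2 _ (z2 _ e4.symm).symm
  have f5 : w' * x' = x' * w' := x2 _ (w2 _ e5.symm).symm
  have f6 : w' * y' = y' * w' := y2 _ (w2 _ e6.symm).symm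
  refine ⟨x', y', i * (x' * z'), w', hx', hy', R.mul_mem hi.1 (R.mul_mem hx' hz'), hw', x1, y1, ?_,
    w1, f1, ?_, ?_, ?_, f5, f6, fun T t1 t2 t3 t4 => e7 T (x4 T t1) (y4 T t2) (z4 T
      (comm_of_mul_left t1 (comm_of_mul_left (by simp [hι]) t3))) (w4 T t4)⟩
  · rw [mul_assoc, ic', ← mul_assoc, i2, mul_assoc, ← mul_assoc z', f3, mul_assoc, z1]
    simp [x1]
  · rw [ic', ← mul_assoc y', f1, mul_assoc, mul_assoc, f4]
    simp [mul_assoc]
  · rw [ic', ← mul_assoc w', f5, mul_assoc, f2]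
    simp [mul_assoc]
  · rw [ic', mul_assoc, mul_assoc, f3]

theorem TwoG.pair_cases (h : TwoG R) {x y : GL ι F} (hx : x ∈ R) (hy : y ∈ R)
    (e : x * y = -(y * x)) : (x * x = -1 ∧ y * y = -1) ∨ ∃ s ∈ R, ∃ t ∈ R, s * s = 1 ∧ t * t = 1 ∧
      t * s = -(s * t) ∧ (∀ g, g * x = x * g → g * y = y * g → g * s = s * g ∧ g * t = t * g) ∧
      ∀ T : Matrix ι ι F, T * s = s * T → T * t = t * T → T * x = x * T ∧ T * y = y * T := by
  have e' : y * x = -(x * y) := by rw [e, neg_neg]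
  rcases h.sq hx with e1 | e1 <;> rcases h.sq hy with e2 | e2
  · exact Or.inr ⟨x, hx, y, hy, e1, e2, e', fun _ a b => ⟨a, b⟩, fun _ a b => ⟨a, b⟩⟩
  · refine Or.inr ⟨x, hx, x * y, R.mul_mem hx hy, e1, ?_, ?_, fun g a b => ⟨a, ?_⟩,
      fun _ a b => ⟨a, comm_of_mul_left a b⟩⟩
    · rw [mul_assoc, ← mul_assoc y, e', neg_mul, mul_assoc, e2, mul_neg_one, neg_neg, e1]
    · rw [mul_assoc, e', mul_neg]
    · rw [← mul_assoc, a, mul_assoc, b, mul_assoc]
  · refine Or.inr ⟨y, hy, y * x, R.mul_mem hy hx, e2, ?_, ?_, fun g a b => ⟨b, ?_⟩,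
      fun _ a b => ⟨comm_of_mul_left a b, a⟩⟩
    · rw [mul_assoc, ← mul_assoc x, e, neg_mul, mul_assoc, e1, mul_neg_one, neg_neg, e2]
    · rw [mul_assoc, e, mul_neg]
    · rw [← mul_assoc, b, mul_assoc, a, mul_assoc]
  · exact Or.inl ⟨e1, e2⟩

theorem TwoG.exists_chain_minus [Finite F] (h : TwoG R) (hm : Geo.IsOfMinusType 2 R) :
    ∃ a b c d, Chain R a b c d := by
  have key : ∀ x ∈ R, ∀ y ∈ R, ∀ s ∈ R, ∀ t ∈ R, x * x = -1 → y * y = -1 → x * y = -(y * x) →
      s * s = 1 → t * t = 1 → t * s = -(s * t) → x * s = s * x → x * t = t * x → y * s = s * y →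
      y * t = t * y → (∀ T : Matrix ι ι F, T * x = x * T → T * y = y * T → T * s = s * T →
        T * t = t * T → ∃ c : F, T = c • 1) → ∃ a b c d, Chain R a b c d := by
    intro x hx y hy s hs t ht x2 y2 e1 s2 t2 e2 e3 e4 e5 e6 e7
    refine ⟨x, y, x * s, s * t, hx, hy, R.mul_mem hx hs, R.mul_mem hs ht, x2, y2, ?_, ?_,
      by rw [e1, neg_neg], ?_, ?_, ?_, ?_, ?_, fun T t1 t2 t3 t4 => e7 T t1 t2
        (comm_of_mul_left t1 t3) (comm_of_mul_left (comm_of_mul_left t1 t3) t4)⟩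
    · rw [mul_assoc, ← mul_assoc s, ← e3, mul_assoc, s2, mul_one, x2]
    · rw [mul_assoc, ← mul_assoc t, e2, neg_mul, mul_assoc, t2, mul_one, mul_neg, s2]
    · rw [mul_assoc, ← e5, ← mul_assoc, e1, neg_mul, mul_assoc]
    · rw [mul_assoc, ← mul_assoc t, ← e4, mul_assoc, e2, ← mul_assoc, ← e3, mul_neg]
    · rw [mul_assoc, ← e3]
    · rw [mul_assoc, ← e4, ← mul_assoc, ← e3, mul_assoc]
    · rw [mul_assoc, ← e6, ← mul_assoc, ← e5, mul_assoc]
  obtain ⟨x, hx, y, hy, z, hz, w, hw, e1, e2, e3, e4, e5, e6, e7⟩ := h.exists_basis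
  rcases h.pair_cases hx hy e1 with ⟨x2, y2⟩ | ⟨s, hs, t, ht, s2, t2, f1, f2, f3⟩ <;>
    rcases h.pair_cases hz hw e2 with ⟨z2, w2⟩ | ⟨u, hu, v, hv, u2, v2, g1, g2, g3⟩
  · exfalso
    have e1' : y * x = -(x * y) := by rw [e1, neg_neg]
    have e2' : w * z = -(z * w) := by rw [e2, neg_neg]
    refine h.not_minus hm (R.mul_mem hx hz) (R.mul_mem hy hw) ?_ ?_ ?_ (h.not_zc hy ?_)
      (h.not_zc hx ?_) (h.not_zc hx ?_)
    · rw [mul_assoc, ← mul_assoc z, e3, mul_assoc, z2, ← mul_assoc, x2]; simp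
    · rw [mul_assoc, ← mul_assoc w, e6, mul_assoc, w2, ← mul_assoc, y2]; simp
    · rw [mul_assoc, mul_assoc, ← mul_assoc z, ← mul_assoc w, e4, e5, mul_assoc, mul_assoc, e2',
        ← mul_assoc y x, e1']
      simp [mul_assoc]
    · rw [mul_assoc, e4, ← mul_assoc, e1, neg_mul, mul_assoc]
    · rw [mul_assoc, e5, ← mul_assoc, e1', neg_mul, mul_assoc]
    · rw [mul_assoc, mul_assoc, mul_assoc, e5, ← mul_assoc y, e1', neg_mul, mul_neg, mul_neg,
        ← mul_assoc z, ← mul_assoc z, e3]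
      simp [mul_assoc]
  · exact key x hx y hy u hu v hv x2 y2 e1 u2 v2 g1 (g2 _ e3.symm e5.symm).1 (g2 _ e3.symm e5.symm).2
      (g2 _ e4.symm e6.symm).1 (g2 _ e4.symm e6.symm).2 fun T a b c d =>
        e7 T a b (g3 T c d).1 (g3 T c d).2
  · exact key z hz w hw s hs t ht z2 w2 e2 s2 t2 f1 (f2 _ e3 e4).1 (f2 _ e3 e4).2
      (f2 _ e5 e6).1 (f2 _ e5 e6).2 fun T a b c d => e7 T (f3 T c d).1 (f3 T c d).2 a b
  · exfalso
    have k1 := g2 s (f2 _ e3 e4).1.symm (f2 _ e5 e6).1.symm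
    have k2 := g2 t (f2 _ e3 e4).2.symm (f2 _ e5 e6).2.symm
    refine h.not_minus hm hs hu s2 u2 k1.1 (h.not_zc ht (by rw [f1, neg_neg]))
      (h.not_zc hv (by rw [g1, neg_neg])) (h.not_zc ht ?_)
    rw [mul_assoc, ← k2.1, ← mul_assoc, ← mul_assoc, f1, neg_mul, neg_neg]

end Cfsg.Agent.Class.C6
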