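import Mathlib
import Cfsg.Agent.Class.C6.Two

/-!
Elements of prime order normalising a symplectic-type 2-group in dimension four.
-/

set_option autoImplicit false

namespace Cfsg.Agent.Class.C6

open Cfsg Matrix Subgroup Cfsg.Agent.Class.Spec Cfsg.Agent.KSG

theorem mem_of_pow_mem {G : Type*} [Group G] {H : Subgroup G} {y : G} {a b : ℕ} (h : a.Coprime b)
    (h1 : y ^ a ∈ H) (h2 : y ^ b ∈ H) : y ∈ H := by
  have := H.mul_mem (H.zpow_mem h1 (a.gcdA b)) (H.zpow_mem h2 (a.gcdB b))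
  rwa [← _root_.zpow_natCast, ← _root_.zpow_natCast, ← _root_.zpow_mul, ← _root_.zpow_mul,
    ← _root_.zpow_add, ← Nat.gcd_eq_gcd_ab, h, Nat.cast_one, zpow_one] at this

variable {F K : Type*} [Field F] [Field K] [Algebra F K] {ι : Type} [Fintype ι] [DecidableEq ι]
  {R G T : Subgroup (GL ι F)} {a b c d i : GL ι F} {p : ℕ} {Q : ℤ}

section Models

theorem val_anti {u v : GL ι F} (h : v * u = -(u * v)) : v.1 * u.1 = -(u.1 * v.1) :=
  congrArg Units.val h

theorem val_sq {u : GL ι F} (h : u * u = -1) : u.1 * u.1 = -1 := congrArg Units.val h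

theorem TwoG.hf_mem [Finite F] (h : TwoG R) {u v : GL ι F} (hu : u ∈ R) (hv : v ∈ R) (u2 v2) :
    hf h.two u v u2 v2 ∈ normalizer (R : Set (GL ι F)) := by
  have key : ∀ w ∈ R, w * w = -1 → ∀ g ∈ R, ∃ g' ∈ R, (1 + w.1) * g.1 = g'.1 * (1 + w.1) :=
    fun w hw w2 g hg => by
      rcases h.comm g hg w hw with e | e
      · exact ⟨g, hg, by rw [add_mul, mul_add, ← Units.val_mul, ← Units.val_mul, e]; simp⟩
      · refine ⟨w * g, R.mul_mem hw hg, ?_⟩
        rw [mul_add, mul_one, Units.val_mul, mul_assoc, val_anti e, mul_neg, ← mul_assoc, val_sq w2]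
        simp [add_mul, add_comm]
  refine mem_normalizer_fintype fun g hg => ?_
  obtain ⟨g1, h1, e1⟩ := key v hv v2 g hg
  obtain ⟨g2, h2, e2⟩ := key u hu u2 g1 h1
  rw [show hf h.two u v u2 v2 * g = g2 * hf h.two u v u2 v2 from Units.ext (by
    simp only [hf, Units.val_mul, smul_mul_assoc, mul_smul_comm]
    rw [mul_assoc, e1, ← mul_assoc, e2, mul_assoc]), mul_inv_cancel_right]
  exact h2

variable {h2 : (2 : F) ≠ 0} {u v : GL ι F} {u2 : u * u = -1} {v2 : v * v = -1}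

theorem hf_mul_left (e : v * u = -(u * v)) : hf h2 u v u2 v2 * u = v * hf h2 u v u2 v2 := by
  refine Units.ext ?_
  simp only [hf, Units.val_mul, smul_mul_assoc, mul_smul_comm, mul_add, add_mul, mul_one, one_mul,
    mul_assoc, val_anti e, val_sq u2, val_sq v2, mul_neg, ← mul_assoc u.1 u.1, ← mul_assoc v.1 u.1,
    neg_mul, neg_neg]
  congr 1
  abel

theorem hf_comm {g : GL ι F} (e1 : g * u = u * g) (e2 : g * v = v * g) :
    g * hf h2 u v u2 v2 = hf h2 u v u2 v2 * g := by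
  refine Units.ext ?_
  have f1 : Commute g.1 u.1 := congrArg Units.val e1
  have f2 : Commute g.1 v.1 := congrArg Units.val e2
  exact ((((Commute.one_right _).add_right f1).mul_right
    ((Commute.one_right _).add_right f2)).smul_right _).eq

theorem hf_cube (e : v * u = -(u * v)) : hf h2 u v u2 v2 ^ 3 = -1 := by
  have h1 : (hf h2 u v u2 v2).1 * (hf h2 u v u2 v2).1 = (hf h2 u v u2 v2).1 - 1 := by
    simp only [hf, smul_mul_assoc, mul_smul_comm, mul_add, add_mul, mul_one, one_mul,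
      mul_assoc, val_anti e, val_sq u2, val_sq v2, mul_neg, ← mul_assoc u.1 u.1, ← mul_assoc v.1 u.1,
      neg_mul, neg_neg]
    match_scalars <;> field_simp <;> ring
  refine Units.ext ?_
  rw [pow_succ, pow_two, Units.val_mul, Units.val_mul, h1, sub_mul, h1]
  simp

theorem TwoG.trace_hf_mul (h : TwoG R) (e : v * u = -(u * v)) {Y : GL ι F} (e1 : Y * u = u * Y)
    (e2 : Y * v = v * Y) : (hf h2 u v u2 v2 * Y).1.trace = 2⁻¹ * Y.1.trace := by
  have f1 : (u * Y).1.trace = 0 := h.trace_eq_zero (y := v) (congrArg Units.val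
    (show u * Y * v = -(v * (u * Y)) by rw [← mul_assoc, e, mul_assoc, e2]; simp [mul_assoc]))
  have f2 : (v * Y).1.trace = 0 := h.trace_eq_zero (y := u) (congrArg Units.val
    (show v * Y * u = -(u * (v * Y)) by rw [mul_assoc, e1, ← mul_assoc, e]; simp [mul_assoc]))
  have f3 : (u * (v * Y)).1.trace = 0 := h.trace_eq_zero (y := u) (congrArg Units.val
    (show u * (v * Y) * u = -(u * (u * (v * Y))) by
      rw [mul_assoc, mul_assoc, e1, ← mul_assoc v, e]; simp [mul_assoc]))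
  simp only [Units.val_mul] at f1 f2 f3
  simp [hf, add_mul, mul_add, mul_assoc, f1, f2, f3]

theorem TwoG.not_scalar (h : TwoG R) (e : b * a = -(a * b)) {y : GL ι F} (h1 : y * a = b * y) (z : F) :
    y.1 ≠ z • 1 := fun hz => by
  have h3 : y * a = a * y := Units.ext (by simp [hz])
  rw [h3, mul_left_inj] at h1
  exact h.ne_neg _ (h1 ▸ e)

theorem Chain.exists_five [Fintype F] (C : Chain R a b c d) (h : TwoG R)
    (h5 : ¬ 5 ∣ Fintype.card F - 1) {H : Subgroup (GL ι F)}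
    (hH : ∀ u ∈ R, ∀ v ∈ R, ∀ u2 v2, hf h.two u v u2 v2 ∈ H) :
    ∃ y ∈ H, y ^ 5 = 1 ∧ ∀ z : F, y.1 ≠ z • 1 := by
  have hy := H.mul_mem (hH a C.ma b C.mb C.sa C.sb) (hH c C.mc d C.md C.sc C.sd)
  have key : ∀ g g' : GL ι F, (1 + a.1) * (1 + b.1) * ((1 + c.1) * (1 + d.1)) * g.1 =
      g'.1 * ((1 + a.1) * (1 + b.1) * ((1 + c.1) * (1 + d.1))) →
      hf h.two a b C.sa C.sb * hf h.two c d C.sc C.sd * g =
        g' * (hf h.two a b C.sa C.sb * hf h.two c d C.sc C.sd) := fun g g' e => Units.ext (by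
    simp only [hf, Units.val_mul, smul_mul_assoc, mul_smul_comm, e])
  have r1 := val_sq C.sa
  have r2 := val_sq C.sb
  have r3 := val_sq C.sc
  have r4 := val_sq C.sd
  have r5 := val_anti C.ab
  have r6 := val_anti C.bc
  have r7 := val_anti C.cd
  have r8 : c.1 * a.1 = a.1 * c.1 := congrArg Units.val C.ac
  have r9 : d.1 * a.1 = a.1 * d.1 := congrArg Units.val C.ad
  have r10 : d.1 * b.1 = b.1 * d.1 := congrArg Units.val C.bd
  have s0 : ∀ {x y z : Matrix ι ι F}, x * y = z → ∀ w, x * (y * w) = z * w := fun e w => by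
    rw [← mul_assoc, e]
  have e1 := key a b ?_
  have e2 := key b c ?_
  have e3 := key c d ?_
  have e4 := key d (a * b * c * d) ?_
  have e5 := key (a * b * c * d) a ?_
  · generalize hf h.two a b C.sa C.sb * hf h.two c d C.sc C.sd = y at hy e1 e2 e3 e4 e5
    generalize a * b * c * d = e at e4 e5
    have f : ∀ {x1 x2 x3 x4 x5 : GL ι F}, y * x1 = x2 * y → y * x2 = x3 * y → y * x3 = x4 * y →
        y * x4 = x5 * y → y * x5 = x1 * y → (y ^ 5).1 * x1.1 = x1.1 * (y ^ 5).1 :=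
      fun f1 f2 f3 f4 f5 => by
        rw [← Units.val_mul, ← Units.val_mul]
        simp only [pow_succ, pow_zero, one_mul, mul_assoc]
        have t : ∀ {x x' : GL ι F}, y * x = x' * y → ∀ w, y * (x * w) = x' * (y * w) := fun e w => by
          rw [← mul_assoc, e, mul_assoc]
        rw [f1, t f2, t f3, t f4, t f5]
    obtain ⟨s, hs⟩ := C.cent _ (f e1 e2 e3 e4 e5) (f e2 e3 e4 e5 e1) (f e3 e4 e5 e1 e2)
      (f e4 e5 e1 e2 e3)
    have := h.nonempty
    have s0 : s ≠ 0 := by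
      rintro rfl
      exact (y ^ 5).ne_zero (by simpa using hs)
    refine ⟨y ^ (Fintype.card F - 1), H.pow_mem hy _, Units.ext ?_, fun z hz => ?_⟩
    · rw [← pow_mul, mul_comm, pow_mul, Units.val_pow_eq_pow_val, hs, smul_pow,
        FiniteField.pow_card_sub_one_eq_one s s0]
      simp
    · have := mem_of_pow_mem (H := centralizer {a}) ((Nat.Prime.coprime_iff_not_dvd Nat.prime_five).2 h5)
        (mem_centralizer_singleton_iff.2 (Units.ext (f e1 e2 e3 e4 e5)))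
        (mem_centralizer_singleton_iff.2 (Units.ext (by rw [Units.val_mul, Units.val_mul, hz]; simp)))
      rw [mem_centralizer_singleton_iff.1 this, mul_left_inj] at e1
      exact h.ne_neg _ (e1 ▸ C.ab)
  all_goals
    simp only [Units.val_mul, mul_add, add_mul, mul_one, one_mul, mul_assoc, r1, r2, r3, r4, r5, r6, r7,
      r8, r9, r10, s0 r1, s0 r2, s0 r3, s0 r5, s0 r6, s0 r7, s0 r8, s0 r9, s0 r10, mul_neg,
      neg_mul, neg_neg]
    abel

theorem Chain.exists_refl (C : Chain R a b c d) (h : TwoG R) (hi : i ∈ zc R) (i2 : i * i = -1)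
    {H : Subgroup (GL ι F)} (hH : ∀ u ∈ R, ∀ v ∈ R, ∀ u2 v2, hf h.two u v u2 v2 ∈ H) :
    ∃ y ∈ H, y ^ 2 = 1 ∧ y.1.trace = 2 ∧ ∀ t : F, y.1 ≠ t • 1 := by
  obtain ⟨j, hj⟩ := h.scalar_of_zc hi
  have := h.nonempty
  have j2 : j ^ 2 = -1 := smul_inj_of_unit (u := (1 : GL ι F))
    (by simpa [hj, smul_smul, pow_two] using val_sq i2)
  have r1 := val_sq C.sa
  have r4 := val_sq C.sd
  have r9 : d.1 * a.1 = a.1 * d.1 := congrArg Units.val C.ad
  have s0 : ∀ {x y z : Matrix ι ι F}, x * y = z → ∀ w, x * (y * w) = z * w := fun e w => by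
    rw [← mul_assoc, e]
  have e1 : i * (a * d) * (i * (a * d)) = -1 := Units.ext (by
    simp [hj, mul_assoc, s0 r9, r1, r4, smul_smul, ← pow_two j, j2])
  have e2 : -i * -i = -1 := by rw [neg_mul_neg, i2]
  have hy := H.mul_mem (hH a C.ma d C.md C.sa C.sd)
    (hH _ (R.mul_mem hi.1 (R.mul_mem C.ma C.md)) _ (h.neg_mem hi.1) e1 e2)
  have h2 := h.two
  have e3 : (hf h.two a d C.sa C.sd * hf h.two _ _ e1 e2).1 =
      (2 : F)⁻¹ • (1 + a.1 * d.1 - j • (a.1 + d.1)) := by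
    simp only [hf, hj, Units.val_mul, Units.val_neg, mul_add, add_mul, mul_one, one_mul, mul_assoc,
      r1, r4, s0 r1, s0 r9, mul_neg, neg_mul, neg_neg, smul_mul_assoc, mul_smul_comm]
    match_scalars <;> field_simp <;> first | linear_combination j2 | linear_combination -j2
  have f1 : a.1.trace = 0 := h.trace_eq_zero (y := b) (by rw [val_anti C.ab, neg_neg])
  have f2 : d.1.trace = 0 := h.trace_eq_zero (val_anti C.cd)
  have f3 : (a.1 * d.1).trace = 0 := h.trace_eq_zero (y := b) (by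
    rw [mul_assoc, ← mul_assoc b.1, val_anti C.ab,
      show d.1 * b.1 = b.1 * d.1 from congrArg Units.val C.bd]
    simp [mul_assoc])
  refine ⟨_, hy, Units.ext ?_, ?_, fun t ht => ?_⟩
  · rw [pow_two, Units.val_mul, e3]
    simp only [mul_add, add_mul, mul_sub, sub_mul, mul_one, one_mul, mul_assoc,
      r1, r4, r9, s0 r1, s0 r9, mul_neg, neg_mul, neg_neg, smul_mul_assoc, mul_smul_comm,
      Units.val_one]
    match_scalars <;> field_simp <;>
      first | ring1 | linear_combination 2 * j2 | linear_combination -2 * j2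
  · simp only [e3, trace_smul, trace_sub, trace_add, f1, f2, f3, trace_one, h.dim]
    simp only [smul_eq_mul]
    field_simp
    norm_num
  · have := congrArg (fun A => trace (a.1 * A)) (e3.symm.trans ht)
    simp only [mul_add, mul_sub, mul_one, mul_smul_comm, r1, s0 r1, trace_smul, trace_sub, trace_add,
      f1, f2, f3, neg_mul, one_mul, trace_neg, trace_one, h.dim, smul_eq_mul] at this
    have j0 : j = 0 := by
      field_simp at this
      exact (mul_eq_zero.1 (by linear_combination this)).resolve_left (mul_ne_zero h2 h2)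
    simp [j0] at j2

end Models

/-- Some `T`-conjugate of `x` normalises `R`. -/
def Good (T R : Subgroup (GL ι F)) (x : GL ι F) : Prop :=
  ∃ g ∈ T, g⁻¹ * x * g ∈ normalizer (R : Set (GL ι F))

theorem scalar_mem_normalizer {u : GL ι F} {z : F} (hu : u.1 = z • 1) :
    u ∈ normalizer (R : Set (GL ι F)) :=
  centralizer_le_normalizer _ fun g _ => Units.ext (by simp [hu])

theorem Good.of_mul {x u : GL ι F} {z : F} (hu : u.1 = z • 1) (h : Good T R (x * u)) : Good T R x := by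
  obtain ⟨g, hg, h1⟩ := h
  refine ⟨g, hg, ?_⟩
  rwa [← mul_assoc, mul_assoc _ u, show u * g = g * u from Units.ext (by simp [hu]), ← mul_assoc,
    mul_mem_cancel_right (scalar_mem_normalizer hu)] at h1

theorem exists_reduce [Nonempty ι] {x : GL ι F} (hx : x ∈ T) (hd : x.1.det = 1) {r k : ℕ}
    (hk : Fintype.card ι ∣ 1 + r * k) {z : F} (hz : (x ^ r).1 = z • 1) (hns : ∀ z : F, x.1 ≠ z • 1) :
    ∃ y ∈ T, y ^ r = 1 ∧ (∀ z : F, y.1 ≠ z • 1) ∧ (Good T R y → Good T R x) := by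
  have h1 : z ^ Fintype.card ι = 1 := by
    simpa [hd] using (congrArg det hz).symm
  have h2 : ((x ^ r) ^ k).1 = z ^ k • 1 := by rw [Units.val_pow_eq_pow_val, hz, smul_pow, one_pow]
  refine ⟨x * (x ^ r) ^ k, T.mul_mem hx (T.pow_mem (T.pow_mem hx r) k), Units.ext ?_, fun w hw => ?_,
    Good.of_mul h2⟩
  · obtain ⟨j, hj⟩ := hk
    rw [← pow_mul, ← pow_succ', ← pow_mul, mul_comm, pow_mul, Units.val_pow_eq_pow_val, hz, smul_pow,
      add_comm, hj, pow_mul, h1]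
    simp
  · have h3 : z ^ k ≠ 0 := fun e => ((x ^ r) ^ k).ne_zero (by simpa [e] using h2)
    refine hns ((z ^ k)⁻¹ * w) ?_
    rw [mul_smul, ← hw, Units.val_mul, h2]
    simp [h3]

variable [Fintype F] [IsAlgClosed K]

omit [Fintype F] [IsAlgClosed K] in
theorem Amb.good (A : Amb K G T p Q) {x y : GL ι F} (hx : x ∈ G) (hy : y ∈ G)
    (hN : y ∈ normalizer (R : Set (GL ι F))) {k : ℕ} (hk : ¬ p ∣ k) {z : F} (hz : x.1 ^ k = z • 1)
    (e : jm K x.1 = jm K y.1) : Good T R x := by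
  obtain ⟨g, hg, h⟩ := A.fuse x hx y hy k hk ⟨z, hz⟩ e
  exact ⟨g, hg, h ▸ hN⟩

omit [Fintype F] [IsAlgClosed K] in
theorem Amb.closed (A : Amb K G T p Q) {x : GL ι F} (hx : x ∈ G) {m : Multiset Kˣ}
    (e : jm K x.1 = ss m) : m.map (· ^ Q) = m := (valid_ss.1 (e ▸ A.valid x hx)).2

variable [CharP K p]

omit [Fintype F] [IsAlgClosed K] in
theorem two_ne_zero_of (h : (2 : F) ≠ 0) : (2 : K) ≠ 0 := by
  rw [← map_ofNat (algebraMap F K) 2]
  exact (map_ne_zero _).2 h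

theorem not_dvd_two {F : Type*} (K : Type*) [Field F] [Field K] [Algebra F K] [CharP K p]
    (h : (2 : F) ≠ 0) : ¬ p ∣ 2 := fun e =>
  two_ne_zero_of (K := K) h ((CharP.cast_eq_zero_iff K p 2).2 e)

theorem exists_class_two (hp : p.Prime) (h : TwoG R) {x : GL ι F} {z : F} (hz : x.1 ^ 2 = z • 1)
    (hns : ∀ z : F, x.1 ≠ z • 1) {s : Kˣ} (hs : (s : K) ^ 2 = algebraMap F K z) :
    (jm K x.1 = ss {s, s, -s, -s} ∧ x.1.trace = 0 ∧ x.1.det = z ^ 2) ∨
    (jm K x.1 = ss {s, s, s, -s} ∧ algebraMap F K x.1.trace = 2 * s ∧ x.1.det = -z ^ 2) ∨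
    (jm K x.1 = ss {s, -s, -s, -s} ∧ algebraMap F K x.1.trace = -2 * s ∧ x.1.det = -z ^ 2) := by
  obtain ⟨m, h1, h2, h3, h4⟩ := exists_ss (K := K) hp (not_dvd_two K h.two) hz hns
  have h5 := trace_ss x.isUnit h1
  have h6 := det_ss h1
  refine (class_two (h2.trans h.dim) (s := s) (fun α hα => Units.ext (by simp [h3 α hα, hs])) h4).imp
    ?_ (Or.imp ?_ ?_) <;> rintro rfl <;> refine ⟨h1, ?_, (algebraMap F K).injective ?_⟩
  · exact (algebraMap F K).injective (by simpa using h5)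
  · simp [h6, ← hs]; ring
  · simp [h5]; ring
  · simp [h6, ← hs]; ring
  · simp [h5]; ring
  · simp [h6, ← hs]; ring

omit [Fintype F] [CharP K p] in
theorem exists_sqrt [Nonempty ι] {x : GL ι F} {z : F} (hz : x.1 ^ 2 = z • 1) :
    ∃ s : Kˣ, (s : K) ^ 2 = algebraMap F K z := by
  obtain ⟨s, hs⟩ := IsAlgClosed.exists_pow_nat_eq (algebraMap F K z) two_pos
  have h0 : z ≠ 0 := by
    rintro rfl
    exact (x.isUnit.pow 2).ne_zero (by simpa using hz)
  exact ⟨Units.mk0 s (by rintro rfl; exact h0 ((map_eq_zero (algebraMap F K)).1 (by simpa using hs.symm))), hs⟩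

theorem good_two_a (hp : p.Prime) (A : Amb K G T p Q) (h : TwoG R) (hG : R ≤ G) (C : Chain R a b c d)
    {x : GL ι F} (hx : x ∈ T) {z : F} (hz : x.1 ^ 2 = z • 1) (hns : ∀ z : F, x.1 ≠ z • 1)
    (h1 : z ^ 2 = 1) : Good T R x := by
  have := h.nonempty
  have h2 := two_ne_zero_of (K := K) h.two
  obtain ⟨s, hs⟩ := exists_sqrt (K := K) hz
  obtain ⟨y, hy, y1, y2⟩ : ∃ y ∈ R, y.1 ^ 2 = z • 1 ∧ ∃ w ∈ R, y * w = -(w * y) := by
    rcases sq_eq_one_iff.1 h1 with rfl | rfl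
    · refine ⟨a * c, R.mul_mem C.ma C.mc, ?_, d, C.md, ?_⟩
      · rw [pow_two, ← Units.val_mul, mul_assoc, ← mul_assoc c, C.ac, mul_assoc, C.sc, ← mul_assoc, C.sa]
        simp
      · rw [← mul_assoc, C.ad, mul_assoc, mul_assoc, C.cd, mul_neg, neg_neg]
    · exact ⟨b, C.mb, by simpa [pow_two] using val_sq C.sb, a, C.ma, C.ab⟩
  obtain ⟨w, hw, y2⟩ := y2
  have y3 := h.trace_eq_zero (val_anti y2)
  refine A.good (A.le hx) (hG hy) (le_normalizer hy) (not_dvd_two K h.two) hz ?_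
  have e1 := exists_class_two hp h hz hns hs
  have e2 := exists_class_two hp h y1 (fun t ht => h.not_zc hw y2 (TwoG.zc_of_scalar hy ht)) hs
  have e3 : (1 : F) ≠ -1 := fun e => h.two (by linear_combination e)
  simp only [A.det x hx, h1, e3, and_false, or_false] at e1
  simp only [y3, map_zero, zero_eq_mul, h2, Units.ne_zero, neg_eq_zero, or_false, false_and,
    and_false] at e2
  exact e1.1.trans e2.1.symm

theorem good_two_b (hp : p.Prime) (A : Amb K G T p Q) (h : TwoG R) (hG : R ≤ G) (C : Chain R a b c d)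
    (hi : i ∈ zc R) (i2 : i * i = -1)
    (hsc : ∀ s : Kˣ, s ^ Q = s → ∃ u ∈ G, ∃ σ : F, u.1 = σ • 1 ∧ algebraMap F K σ = s)
    {x : GL ι F} (hx : x ∈ T) {z : F} (hz : x.1 ^ 2 = z • 1) (hns : ∀ z : F, x.1 ≠ z • 1)
    (h1 : z ^ 2 = -1) : Good T R x := by
  classical
  have := h.nonempty
  have h2 := two_ne_zero_of (K := K) h.two
  have e3 : (1 : F) ≠ -1 := fun e => h.two (by linear_combination e)
  obtain ⟨s, hs, e1⟩ : ∃ s : Kˣ, (s : K) ^ 2 = algebraMap F K z ∧ jm K x.1 = ss {s, s, s, -s} := by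
    obtain ⟨s, hs⟩ := exists_sqrt (K := K) hz
    rcases exists_class_two hp h hz hns hs with e | e | e
    · exact absurd ((A.det x hx).symm.trans (e.2.2.trans h1)) e3
    · exact ⟨s, hs, e.1⟩
    · refine ⟨-s, by simpa using hs, e.1.trans (congrArg ss ?_)⟩
      simp only [Multiset.insert_eq_cons, ← Multiset.singleton_add, neg_neg]
      ac_rfl
  have e4 : s ≠ -s := fun e => by
    have := congrArg Units.val e
    exact s.ne_zero ((mul_eq_zero.1 (by simpa [two_mul, add_eq_zero_iff_eq_neg] using this)).resolve_left h2)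
  have e2 : s ^ Q = s := by
    have e5 := A.closed (A.le hx) e1
    by_contra e6
    have e7 := congrArg (Multiset.count s) e5
    simp [Ne.symm e6, e4, Multiset.count_singleton] at e7
    split_ifs at e7
    all_goals omega
  obtain ⟨u, hu, σ, u1, u2⟩ := hsc s e2
  obtain ⟨y, ⟨hy, hN⟩, y1, y2, y5⟩ := C.exists_refl h hi i2 (H := G ⊓ normalizer (R : Set (GL ι F)))
    fun u hu v hv u2 v2 => ⟨A.half _ u (hG hu) v (hG hv) u2 v2, h.hf_mem hu hv u2 v2⟩
  have y3 : (u * y).1 ^ 2 = z • 1 := by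
    rw [Units.val_mul, u1, smul_mul_assoc, one_mul, smul_pow, ← Units.val_pow_eq_pow_val, y1,
      (algebraMap F K).injective (by rw [map_pow, u2, hs] : algebraMap F K (σ ^ 2) = algebraMap F K z),
      Units.val_one]
  have y4 : algebraMap F K (u * y).1.trace = 2 * s := by
    rw [Units.val_mul, u1, smul_mul_assoc, one_mul, trace_smul, y2, smul_eq_mul, map_mul, u2, mul_comm,
      map_ofNat]
  refine A.good (A.le hx) (G.mul_mem hu hy) (mul_mem (scalar_mem_normalizer u1) hN)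
    (not_dvd_two K h.two) hz (e1.trans ?_)
  have σ0 : σ ≠ 0 := fun e => s.ne_zero (by simp [← u2, e])
  rcases exists_class_two hp h y3 (fun t ht => y5 (σ⁻¹ * t) (by
    rw [mul_smul, ← ht, Units.val_mul, u1]; simp [σ0])) hs with e | e | e
  · rw [e.2.1, map_zero] at y4
    exact absurd y4.symm (mul_ne_zero h2 s.ne_zero)
  · exact e.1.symm
  · exact absurd (by linear_combination y4.symm.trans e.2.1 : (2 * 2 * s : K) = 0)
      (mul_ne_zero (mul_ne_zero h2 h2) s.ne_zero)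

theorem good_two (hp : p.Prime) (A : Amb K G T p Q) (h : TwoG R) (hG : R ≤ G) (C : Chain R a b c d)
    (hi : i ∈ zc R) (i2 : i * i = -1)
    (hsc : ∀ s : Kˣ, s ^ Q = s → ∃ u ∈ G, ∃ σ : F, u.1 = σ • 1 ∧ algebraMap F K σ = s)
    {x : GL ι F} (hx : x ∈ T) {z : F} (hz : (x ^ 2).1 = z • 1) (hns : ∀ z : F, x.1 ≠ z • 1) :
    Good T R x := by
  have h1 : (z ^ 2) ^ 2 = 1 := by
    simpa [A.det x hx, h.dim, ← pow_mul] using (congrArg det hz).symm
  rcases sq_eq_one_iff.1 h1 with e | e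
  exacts [good_two_a hp A h hG C hx hz hns e, good_two_b hp A h hG C hi i2 hsc hx hz hns e]

omit [Fintype F] in
theorem exists_prim (hp : p.Prime) {r : ℕ} (hr : r.Prime) (h : p ≠ r) :
    ∃ ζ : Kˣ, IsPrimitiveRoot ζ r := by
  have : NeZero (r : K) := ⟨fun e =>
    h ((Nat.prime_dvd_prime_iff_eq hp hr).1 ((CharP.cast_eq_zero_iff K p r).1 e))⟩
  obtain ⟨ζ, hζ⟩ := HasEnoughRootsOfUnity.exists_primitiveRoot K r
  exact ⟨_, hζ.isUnit_unit hr.ne_zero⟩

omit [Fintype F] [IsAlgClosed K] [CharP K p] [Algebra F K] in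
theorem omega_sum {ω : Kˣ} (hω : IsPrimitiveRoot ω 3) : (ω : K) ^ 2 + ω + 1 = 0 := by
  have := (IsPrimitiveRoot.coe_units_iff.2 hω).geom_sum_eq_zero (by decide)
  simp only [Finset.sum_range_succ, Finset.range_zero, Finset.sum_empty] at this
  linear_combination this

theorem exists_class_three (hp : p.Prime) (h3 : p ≠ 3) (A : Amb K G T p Q) (hd : Fintype.card ι = 4)
    (hQ : Q % 3 = 2) {ω : Kˣ} (hω : IsPrimitiveRoot ω 3) {x : GL ι F} (hx : x ∈ G) (h1 : x ^ 3 = 1)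
    (hns : ∀ z : F, x.1 ≠ z • 1) : (jm K x.1 = ss {1, 1, ω, ω ^ 2} ∧ x.1.trace = 1) ∨
      (jm K x.1 = ss {ω, ω, ω ^ 2, ω ^ 2} ∧ x.1.trace = -2) := by
  obtain ⟨m, m1, m2, m3, m4⟩ := exists_ss (K := K) hp (k := 3) (z := 1)
    (fun e => h3 ((Nat.prime_dvd_prime_iff_eq hp Nat.prime_three).1 e))
    (by simpa using congrArg Units.val h1) hns
  have h5 := trace_ss x.isUnit m1
  have h6 := omega_sum hω
  refine (class_three (m2.trans hd) (fun α hα => Units.ext (by simpa using m3 α hα)) (A.closed hx m1)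
    hQ (fun e => m4 ⟨1, e⟩) hω).imp ?_ ?_ <;> rintro rfl <;>
    refine ⟨m1, (algebraMap F K).injective ?_⟩ <;> simp [h5, map_ofNat]
  · linear_combination h6
  · linear_combination 2 * h6

theorem good_three (hp : p.Prime) (h3 : p ≠ 3) (A : Amb K G T p Q) (h : TwoG R) (hG : R ≤ G)
    (C : Chain R a b c d) (hi : i ∈ zc R) (i2 : i * i = -1) (hQ : Q % 3 = 2)
    {x : GL ι F} (hx : x ∈ T) {z : F} (hz : (x ^ 3).1 = z • 1) (hns : ∀ z : F, x.1 ≠ z • 1) :
    Good T R x := by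
  have := h.nonempty
  obtain ⟨x, hx, h1, hns, h2⟩ := exists_reduce (R := R) hx (A.det x hx) (k := 1) (by rw [h.dim]) hz hns
  refine h2 ?_
  obtain ⟨ω, hω⟩ := exists_prim (K := K) hp Nat.prime_three h3
  have h4 : ¬ p ∣ 3 := fun e => h3 ((Nat.prime_dvd_prime_iff_eq hp Nat.prime_three).1 e)
  have h5 : (1 : F) ≠ -2 := fun e => h4 ((CharP.cast_eq_zero_iff K p 3).1 (by
    have := congrArg (algebraMap F K) e
    simp only [map_one, map_neg, map_ofNat] at this
    push_cast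
    linear_combination this))
  have key : ∀ y ∈ G, y ∈ normalizer (R : Set (GL ι F)) → y ^ 3 = 1 → y * a = b * y →
      y.1.trace = x.1.trace → Good T R x := fun y hy hN y1 y2 y3 => by
    refine A.good (A.le hx) hy hN h4 (z := 1) (by simpa using congrArg Units.val h1) ?_
    rcases exists_class_three hp h3 A h.dim hQ hω (A.le hx) h1 hns with e | e <;>
      rcases exists_class_three hp h3 A h.dim hQ hω hy y1 (h.not_scalar C.ab y2) with e' | e'
    · exact e.1.trans e'.1.symm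
    · exact absurd (e.2.symm.trans (y3.symm.trans e'.2)) h5
    · exact absurd (e'.2.symm.trans (y3.trans e.2)) h5
    · exact e.1.trans e'.1.symm
  have w1 := A.half h.two a (hG C.ma) b (hG C.mb) C.sa C.sb
  have w2 := h.hf_mem C.ma C.mb C.sa C.sb
  have w3 := hf_mul_left (h2 := h.two) (u2 := C.sa) (v2 := C.sb) C.ab
  have w4 := hf_cube (h2 := h.two) (u2 := C.sa) (v2 := C.sb) C.ab
  have w5 := fun Y => h.trace_hf_mul (h2 := h.two) (u2 := C.sa) (v2 := C.sb) C.ab (Y := Y)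
  have w6 := fun g => hf_comm (h2 := h.two) (u2 := C.sa) (v2 := C.sb) (g := g)
  generalize hf h.two a b C.sa C.sb = w at w1 w2 w3 w4 w5 w6
  have h6 := h.two
  rcases exists_class_three hp h3 A h.dim hQ hω (A.le hx) h1 hns with ⟨-, e⟩ | ⟨-, e⟩
  · obtain ⟨j, hj⟩ := h.scalar_of_zc hi
    have ic : ∀ g x : GL ι F, g * (i * x) = i * (g * x) := fun g x => Units.ext (by simp [hj])
    have s1 : i * (a * c) * (i * (a * c)) = -1 := by
      rw [ic, ← mul_assoc, ← mul_assoc, ← mul_assoc, i2, mul_assoc, mul_assoc, mul_assoc,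
        ← mul_assoc c, C.ac, mul_assoc, C.sc]
      simp [C.sa]
    have s2 : i * (a * c) * d = -(d * (i * (a * c))) := by
      rw [ic, ← mul_assoc d, C.ad, mul_assoc a, C.cd]
      simp [mul_assoc]
    have s3 := R.mul_mem hi.1 (R.mul_mem C.ma C.mc)
    have s4 : a * (i * (a * c)) = i * (a * c) * a := by rw [ic, mul_assoc, mul_assoc, C.ac]
    have s5 : b * (i * (a * c)) = i * (a * c) * b := by
      rw [ic, mul_assoc, mul_assoc, C.bc, ← mul_assoc b, C.ab]
      simp [mul_assoc]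
    have v1 := A.half h.two d (hG C.md) _ (hG s3) C.sd s1
    have v2 := h.hf_mem C.md s3 C.sd s1
    have v3 := hf_comm (h2 := h.two) (u2 := C.sd) (v2 := s1) C.ad.symm s4
    have v4 := hf_comm (h2 := h.two) (u2 := C.sd) (v2 := s1) C.bd.symm s5
    have v5 := hf_cube (h2 := h.two) (u2 := C.sd) (v2 := s1) s2
    have v6 := h.trace_hf_mul (h2 := h.two) (u2 := C.sd) (v2 := s1) s2 (Y := 1) (by simp) (by simp)
    generalize hf h.two d _ C.sd s1 = v at v1 v2 v3 v4 v5 v6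
    refine key (w * v) (G.mul_mem w1 v1) (mul_mem w2 v2) ?_
      (by rw [mul_assoc, ← v3, ← mul_assoc, w3, mul_assoc]) ?_
    · rw [Commute.mul_pow (w6 v v3.symm v4.symm).symm, w4, v5]
      simp
    · rw [w5 _ v3.symm v4.symm, e, ← mul_one v, v6]
      simp [h.dim]
      field_simp
      norm_num
  · refine key (w * -1) (G.mul_mem w1 (hG h.neg)) (mul_mem w2 (le_normalizer h.neg))
      (by simp [Odd.neg_pow (by decide : Odd 3), w4]) (by simp [w3]) ?_
    rw [w5 _ (by simp) (by simp), e]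
    simp [h.dim]
    field_simp
    norm_num

theorem good_five (hp : p.Prime) (hp5 : p ≠ 5) (A : Amb K G T p Q) (h : TwoG R) (hG : R ≤ G)
    (C : Chain R a b c d) (hQ : Q % 5 = 2 ∨ Q % 5 = 3) (h5 : ¬ 5 ∣ Fintype.card F - 1)
    {x : GL ι F} (hx : x ∈ T) {z : F} (hz : (x ^ 5).1 = z • 1) (hns : ∀ z : F, x.1 ≠ z • 1) :
    Good T R x := by
  have := h.nonempty
  obtain ⟨x, hx, h1, hns, h2⟩ := exists_reduce (R := R) hx (A.det x hx) (k := 3) (by rw [h.dim]; decide)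
    hz hns
  refine h2 ?_
  have h4 : ¬ p ∣ 5 := fun e => hp5 ((Nat.prime_dvd_prime_iff_eq hp Nat.prime_five).1 e)
  obtain ⟨y, ⟨hy, hN⟩, y1, y2⟩ := C.exists_five h h5 (H := G ⊓ normalizer (R : Set (GL ι F)))
    fun u hu v hv u2 v2 => ⟨A.half _ u (hG hu) v (hG hv) u2 v2, h.hf_mem hu hv u2 v2⟩
  have key : ∀ x ∈ G, x ^ 5 = 1 → (∀ z : F, x.1 ≠ z • 1) → ∃ m : Multiset Kˣ, jm K x.1 = ss m ∧
      m.Nodup ∧ ∀ β, β ∈ m ↔ β ^ 5 = 1 ∧ β ≠ 1 := fun x hx h1 hns => by
    obtain ⟨m, m1, m2, m3, m4⟩ := exists_ss (K := K) hp h4 (z := 1)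
      (by simpa using congrArg Units.val h1) hns
    exact ⟨m, m1, class_five (m2.trans h.dim) (fun α hα => Units.ext (by simpa using m3 α hα))
      (A.closed hx m1) hQ fun e => m4 ⟨1, e⟩⟩
  obtain ⟨m, m1, m2, m3⟩ := key x (A.le hx) h1 hns
  obtain ⟨m', n1, n2, n3⟩ := key y hy y1 y2
  exact A.good (A.le hx) hy hN h4 (z := 1) (by simpa using congrArg Units.val h1)
    (by rw [m1, n1, (Multiset.Nodup.ext m2 n2).2 fun β => (m3 β).trans (n3 β).symm])

omit [Fintype F] [IsAlgClosed K] [CharP K p] in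
theorem Good.exists {x : GL ι F} (h : Good T R x) {r : ℕ} (h1 : x ^ r = 1)
    (hns : ∀ z : F, x.1 ≠ z • 1) : ∃ g : GL ι F, g⁻¹ * x * g ∈ normalizer (R : Set (GL ι F)) ∧
      (g⁻¹ * x * g) ^ r = 1 ∧ ∀ z : F, (g⁻¹ * x * g).1 ≠ z • 1 := by
  obtain ⟨g, -, hg⟩ := h
  refine ⟨g, hg, by simpa [h1] using conj_pow (a := g⁻¹) (b := x) (i := r), fun z hz => hns z ?_⟩
  rw [← conj_smul_one g z, ← hz, ← Units.val_mul, ← Units.val_mul]
  congr 1
  group

omit [IsAlgClosed K] [CharP K p] in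
theorem not_good_large (A : Amb K G T p Q) (h : TwoG R) {r : ℕ} (hr : r.Prime) (h2 : r ≠ 2) (h3 : r ≠ 3)
    (h5 : r ≠ 5) (hT : r ∣ Nat.card T) (H : ∀ x ∈ T, (∃ z : F, (x ^ r).1 = z • 1) →
      (∀ z : F, x.1 ≠ z • 1) → Good T R x) : False := by
  have := Fact.mk hr
  have := h.nonempty
  obtain ⟨⟨x, hx⟩, ho⟩ := exists_prime_orderOf_dvd_card' r hT
  rw [Subgroup.orderOf_mk] at ho
  have h1 : x ^ r = 1 := ho ▸ pow_orderOf_eq_one x
  have hns : ∀ z : F, x.1 ≠ z • 1 := fun z hz => by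
    have e1 : x ^ 4 = 1 := Units.ext (by
      have := A.det x hx
      rw [hz, det_smul, h.dim, det_one, mul_one] at this
      simp [hz, smul_pow, this])
    exact h2 ((Nat.prime_dvd_prime_iff_eq hr Nat.prime_two).1
      (hr.dvd_of_dvd_pow (n := 2) (ho ▸ orderOf_dvd_of_pow_eq_one e1)))
  obtain ⟨g, g1, g2, g3⟩ := (H x hx ⟨1, by simp [h1]⟩ hns).exists h1 hns
  rcases h.card_fixed g1 hr h2 g2 g3 with ⟨-, e | e⟩ | ⟨-, e⟩ <;> contradiction

theorem Good.trace (hp : p.Prime) (h : TwoG R) (C : Chain R a b c d) {r : ℕ} (hr : r.Prime) (h2 : r ≠ 2)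
    {x : GL ι F} {m : Multiset Kˣ} (e : jm K x.1 = ss m) (m1 : ∀ α ∈ m, α ^ r = 1)
    (m2 : ¬ ∃ c, ∀ α ∈ m, α = c) (H : (∃ z : F, (x ^ r).1 = z • 1) →
      (∀ z : F, x.1 ≠ z • 1) → Good T R x) :
    ((m.map Units.val).sum * (m.map fun α : Kˣ => ((α : K))⁻¹).sum = 1 ∧
      (r = 5 ∨ ¬ (Geo.IsOfMinusType 2 R ∧ Nat.card (zc R) = 2))) ∨
    ((m.map Units.val).sum * (m.map fun α : Kˣ => ((α : K))⁻¹).sum = 4 ∧ r = 3) := by
  obtain ⟨h1, hns⟩ := of_ss hp e m1 m2
  obtain ⟨g, g1, g2, g3⟩ := (H ⟨1, by simp [h1]⟩ hns).exists h1 hns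
  rw [← jm_conj g] at e
  generalize g⁻¹ * x * g = y at e g1 g2 g3
  rw [← trace_ss y.isUnit e, ← trace_inv_ss e, ← map_mul]
  have key := fun j => h.trace_formula g1 (hr.odd_of_ne_two h2) g2 (j := j)
  rcases h.card_fixed g1 hr h2 g2 g3 with ⟨e1, e2⟩ | ⟨e1, e2⟩
  · refine Or.inl ⟨by rw [key 1 (by rw [e1, one_mul])]; simp, e2.symm.imp_right ?_⟩
    rintro rfl ⟨hm, hZ⟩
    refine h.card_fixed_ne hm hZ (R.mul_mem C.ma C.mc) ?_ (h.not_zc C.md ?_) g1 g2 e1
    · rw [mul_assoc, ← mul_assoc c, C.ac, mul_assoc, C.sc, ← mul_assoc, C.sa]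
      simp
    · rw [← mul_assoc, C.ad, mul_assoc, mul_assoc, C.cd, mul_neg, neg_neg]
  · exact Or.inr ⟨by rw [key 4 e1, map_natCast]; rfl, e2⟩

omit [Fintype F] [IsAlgClosed K] [CharP K p] in
theorem not_good_transv [CharP F p] (hp : p.Prime) (h : TwoG R) {x : GL ι F} {N : Matrix ι ι F}
    (hx : x.1 = 1 + N) (h0 : N ≠ 0) (h1 : N * N = 0) (h3 : N.rank ≤ 1)
    (H : (∃ z : F, (x ^ p).1 = z • 1) → (∀ z : F, x.1 ≠ z • 1) → Good T R x) : False := by
  have := h.nonempty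
  have h4 : ∀ k : ℕ, (x ^ k).1 = 1 + (k : F) • N := fun k => by
    induction k with
    | zero => simp
    | succ k ih => simp [pow_succ, ih, hx, mul_add, add_mul, h1, add_smul, add_assoc, add_comm]
  have h5 : x ^ p = 1 := Units.ext (by simp [h4])
  have hns : ∀ z : F, x.1 ≠ z • 1 := fun z hz => by
    have e1 : N = (z - 1) • 1 := by rw [sub_smul, ← hz, hx]; simp
    have e2 : (z - 1) * (z - 1) = 0 := smul_inj_of_unit (u := (1 : GL ι F))
      (by simpa [e1, smul_smul] using h1)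
    exact h0 (by simp [e1, mul_self_eq_zero.1 e2])
  obtain ⟨g, g1, g2, g3⟩ := (H ⟨1, by simp [h5]⟩ hns).exists h5 hns
  have h2 : p ≠ 2 := by
    rintro rfl
    exact h.two (CharP.cast_eq_zero F 2)
  have h6 := h.nice.eig_strong Nat.prime_two g1 g3 (w := p) ⟨1, by simpa using congrArg Units.val g2⟩
    (Or.inl ⟨hp.odd_of_ne_two h2, (Nat.coprime_primes hp Nat.prime_two).2 h2⟩) 1
  have h7 := rank_add_finrank_ker ((g⁻¹ : GL ι F).1 * N * g.1)
  have h8 := ((rank_mul_le_left ((g⁻¹ : GL ι F).1 * N) g.1).trans (rank_mul_le_right _ _)).trans h3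
  have h9 : Module.End.eigenspace (toLin' (g⁻¹ * x * g).1) 1 =
      LinearMap.ker (toLin' ((g⁻¹ : GL ι F).1 * N * g.1)) := by
    ext v
    rw [mem_eigen_iff, LinearMap.mem_ker, toLin'_apply, Units.val_mul, Units.val_mul, hx, mul_add,
      add_mul, mul_one, Units.inv_mul, add_mulVec, one_mulVec, one_smul, add_eq_left]
  rw [h9, h.dim] at h6
  rw [h.dim] at h7
  omega

omit [Fintype F] [IsAlgClosed K] [Algebra F K] in
theorem not_cast_eq_zero {k : ℕ} (h : ¬ p ∣ k) : (k : K) ≠ 0 := fun e =>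
  h ((CharP.cast_eq_zero_iff K p k).1 e)

theorem not_good_homology (hp : p.Prime) (h5 : 5 ≤ p) (h : TwoG R) (C : Chain R a b c d) {ω : Kˣ}
    (hω : IsPrimitiveRoot ω 3) {x : GL ι F} (e : jm K x.1 = ss {ω, ω, ω, 1})
    (H : (∃ z : F, (x ^ 3).1 = z • 1) → (∀ z : F, x.1 ≠ z • 1) → Good T R x) : False := by
  have h1 := omega_sum hω
  have h2 : (ω : K)⁻¹ = ω ^ 2 := (eq_inv_of_mul_eq_one_left (by
    rw [← pow_succ, ← Units.val_pow_eq_pow_val, hω.pow_eq_one, Units.val_one])).symm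
  have h3 : ¬ p ∣ 6 := fun e => by
    have := Nat.le_of_dvd (by decide) e
    interval_cases p <;> first | omega | exact absurd hp (by decide)
  have h4 := not_cast_eq_zero (K := K) (p := p) h3
  have h6 : (ω : K) ^ 3 = 1 := by rw [← Units.val_pow_eq_pow_val, hω.pow_eq_one, Units.val_one]
  rcases Good.trace hp h C Nat.prime_three (by decide) e (by simp [hω.pow_eq_one])
    (by simpa using (hω.ne_one (by decide)).symm) H with ⟨e1, -⟩ | ⟨e1, -⟩ <;>
    simp [h2] at e1 <;> refine h4 ?_ <;> push_cast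
  · linear_combination e1 - 3 * h1 - 9 * h6
  · linear_combination 2 * e1 - 6 * h1 - 18 * h6

theorem not_good_five (hp : p.Prime) (h5 : p ≠ 5) (h : TwoG R) (C : Chain R a b c d) {ζ : Kˣ}
    (hζ : IsPrimitiveRoot ζ 5) {x : GL ι F} (e : jm K x.1 = ss {1, 1, ζ, ζ⁻¹})
    (H : (∃ z : F, (x ^ 5).1 = z • 1) → (∀ z : F, x.1 ≠ z • 1) → Good T R x) : False := by
  have h1 := (IsPrimitiveRoot.coe_units_iff.2 hζ).geom_sum_eq_zero (by decide)
  simp only [Finset.sum_range_succ, Finset.range_zero, Finset.sum_empty] at h1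
  have h2 : (ζ : K)⁻¹ = ζ ^ 4 := (eq_inv_of_mul_eq_one_left (by
    rw [← pow_succ, ← Units.val_pow_eq_pow_val, hζ.pow_eq_one, Units.val_one])).symm
  have h4 := not_cast_eq_zero (K := K) (p := p) (k := 5)
    fun e => h5 ((Nat.prime_dvd_prime_iff_eq hp Nat.prime_five).1 e)
  have h6 : (ζ : K) ^ 5 = 1 := by rw [← Units.val_pow_eq_pow_val, hζ.pow_eq_one, Units.val_one]
  rcases Good.trace hp h C Nat.prime_five (by decide) e (by simp [hζ.pow_eq_one])
    (by simp [hζ.ne_one]) H with ⟨e1, -⟩ | ⟨-, e1⟩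
  · simp only [Multiset.insert_eq_cons, Multiset.map_cons, Multiset.map_singleton, Multiset.sum_cons,
      Multiset.sum_singleton, Units.val_inv_eq_inv_val, inv_inv, Units.val_one, inv_one] at e1
    rw [h2] at e1
    obtain ⟨t, ht⟩ : ∃ t : K, t = ζ + ζ ^ 4 := ⟨_, rfl⟩
    have t1 : t ^ 2 + t - 1 = 0 := by
      rw [ht]; linear_combination h1 + (2 + (ζ : K) ^ 3) * h6
    have t2 : (2 + t) ^ 2 = 1 := by rw [ht]; linear_combination e1
    refine h4 ?_
    push_cast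
    linear_combination (-9) * t1 + (3 * t + 1 - 2) * (t2 - t1)
  · omega

theorem not_good_minus (hp : p.Prime) (h3 : p ≠ 3) (h : TwoG R) (C : Chain R a b c d)
    (hm : Geo.IsOfMinusType 2 R) (hZ : Nat.card (zc R) = 2) {ω : Kˣ}
    (hω : IsPrimitiveRoot ω 3) {x : GL ι F} (e : jm K x.1 = ss {1, 1, ω, ω⁻¹})
    (H : (∃ z : F, (x ^ 3).1 = z • 1) → (∀ z : F, x.1 ≠ z • 1) → Good T R x) : False := by
  have h1 := omega_sum hω
  have h2 : (ω : K)⁻¹ = ω ^ 2 := (eq_inv_of_mul_eq_one_left (by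
    rw [← pow_succ, ← Units.val_pow_eq_pow_val, hω.pow_eq_one, Units.val_one])).symm
  have h4 := not_cast_eq_zero (K := K) (p := p) (k := 3)
    fun e => h3 ((Nat.prime_dvd_prime_iff_eq hp Nat.prime_three).1 e)
  rcases Good.trace hp h C Nat.prime_three (by decide) e (by simp [hω.pow_eq_one])
    (by simp [hω.ne_one]) H with ⟨-, e1 | e1⟩ | ⟨e1, -⟩
  · omega
  · exact e1 ⟨hm, hZ⟩
  · simp only [Multiset.insert_eq_cons, Multiset.map_cons, Multiset.map_singleton, Multiset.sum_cons,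
      Multiset.sum_singleton, Units.val_inv_eq_inv_val, inv_inv, Units.val_one, inv_one] at e1
    rw [h2] at e1
    refine h4 ?_
    push_cast
    linear_combination -e1 + ((ω : K) ^ 2 + ω + 3) * h1

omit [Fintype F] [IsAlgClosed K] [CharP K p] [Algebra F K] in
theorem map_pair {ζ : Kˣ} {r : ℕ} (h : ζ ^ r = 1) (hQ : Q % r = 1 ∨ (Q + 1) % r = 0) :
    ({1, 1, ζ, ζ⁻¹} : Multiset Kˣ).map (· ^ Q) = {1, 1, ζ, ζ⁻¹} := by
  rcases hQ with hQ | hQ
  · simp [zpow_eq_pow_of_emod (j := 1) h hQ]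
  · have := zpow_eq_pow_of_emod (j := 0) h hQ
    rw [_root_.zpow_add_one, pow_zero, mul_eq_one_iff_eq_inv] at this
    simpa [this] using Multiset.pair_comm _ _

theorem orderOf_five_iff (p : ℕ) : orderOf (p : ZMod 5) = 4 ↔ p % 5 = 2 ∨ p % 5 = 3 := by
  have h : ∀ a : ZMod 5, orderOf a = 4 ↔ a = 2 ∨ a = 3 := fun a => by
    rw [orderOf_eq_iff (by decide)]
    revert a
    decide
  rw [h, ← ZMod.natCast_eq_natCast_iff' p 2 5, ← ZMod.natCast_eq_natCast_iff' p 3 5]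
  rfl

variable [Algebra.IsAlgebraic F K]

omit [CharP K p] in
theorem exists_SL_ss {m : Multiset Kˣ} (h1 : m.card = Fintype.card ι)
    (h2 : m.map (· ^ (Fintype.card F : ℤ)) = m) (h3 : m.prod = 1) :
    ∃ x ∈ Geo.specialLinear ι F, jm K x.1 = ss m := by
  obtain ⟨x, hx⟩ := exists_GL_jm (F := F) (ι := ι) (valid_ss.2 ⟨h1, h2⟩)
  exact ⟨x, mem_specialLinear.2 ((jdet_jm_eq_one_iff (K := K) x.isUnit).1 (by rw [hx, jdet_ss, h3])), hx⟩

omit [CharP K p] in
theorem exists_SU_ss {n q : ℕ} [U.UF F q] {m : Multiset Kˣ} (h1 : m.card = n)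
    (h2 : m.map (· ^ (-q : ℤ)) = m) (h3 : m.prod = 1) :
    ∃ x ∈ GU n F q ⊓ Geo.specialLinear (Fin n) F, jm K x.1 = ss m := by
  obtain ⟨x, hx⟩ := exists_GU_jm (F := F) (valid_ss.2 ⟨h1, h2⟩)
  exact ⟨x, ⟨x.2, mem_specialLinear.2 ((jdet_jm_eq_one_iff (K := K) x.1.isUnit).1
    (by rw [hx, jdet_ss, h3]))⟩, hx⟩

omit [CharP K p] in
theorem exists_Sp_pair {ζ : Kˣ} {r : ℕ} (h : ζ ^ r = 1) (h1 : ζ * ζ ≠ 1)
    (hQ : (Fintype.card F : ℤ) % r = 1 ∨ ((Fintype.card F : ℤ) + 1) % r = 0) :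
    ∃ x ∈ spGL 2 F, jm K x.1 = ss {1, 1, ζ, ζ⁻¹} := by
  obtain ⟨x, hx⟩ := exists_Sp_jm (F := F) (m := 2) (valid_ss.2 ⟨rfl, map_pair h hQ⟩)
    ⟨by rw [map_tw_ss]; exact congrArg ss (by simpa using Multiset.pair_comm _ _), fun c e hc _ => by
      have e1 : c ≠ ζ := by rintro rfl; exact h1 hc
      have e2 : c ≠ ζ⁻¹ := by rintro rfl; exact h1 (by rwa [← mul_inv, inv_eq_one] at hc)
      simp [ss, Multiset.count_cons, e1, e2, ← two_mul]
      split_ifs <;> decide⟩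
  exact ⟨Sp.toGL x, Sp.mem_spGL_iff.2 x.2, hx⟩

omit [IsAlgClosed K] [CharP K p] [Algebra.IsAlgebraic F K] in
theorem exists_scalar {s : Kˣ} (h : s ^ (Fintype.card F : ℤ) = s) :
    ∃ u : GL ι F, ∃ σ : F, u.1 = σ • 1 ∧ algebraMap F K σ = s := by
  obtain ⟨z, rfl⟩ := (fixed_iff (F := F)).1 h
  exact ⟨z • 1, z, rfl, rfl⟩

omit [IsAlgClosed K] [CharP K p] [Algebra.IsAlgebraic F K] in
theorem exists_scalar_GU {n q : ℕ} [hU : U.UF F q] {s : Kˣ} (h : s ^ (-q : ℤ) = s) :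
    ∃ u ∈ GU n F q, ∃ σ : F, u.1 = σ • 1 ∧ algebraMap F K σ = s := by
  obtain ⟨u, σ, h1, h2⟩ := exists_scalar (F := F) (ι := Fin n) (s := s) (by
    rw [← Nat.card_eq_fintype_card, hU.card_eq, Nat.cast_pow, ← neg_sq, pow_two, _root_.zpow_mul, h, h])
  refine ⟨u, Wall.pres_iff_cstar.2 ?_, σ, h1, h2⟩
  have h3 : U.conj F q σ * σ = 1 := (algebraMap F K).injective (by
    rw [_root_.zpow_neg, inv_eq_iff_mul_eq_one] at h
    have := congrArg Units.val h
    simpa [U.conj_apply, h2] using this)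
  rw [Units.coeHom_apply, h1, ← Algebra.algebraMap_eq_smul_one, Wall.cstar_algebraMap, ← map_mul, h3, map_one]

end Cfsg.Agent.Class.C6
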