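import Mathlib
import Cfsg.Agent.Class.Elus.SimF
import Cfsg.Agent.Class.C6.Four

/-!
Elements of prime order normalising an extraspecial group of order 27 in dimension three.
-/

set_option autoImplicit false

namespace Cfsg.Agent.Class.C6

open Cfsg Matrix Subgroup Cfsg.Agent.Class.Spec Cfsg.Agent.KSG
open scoped commutatorElement

section Grp

theorem comm_of_card_dvd_nine {G : Type*} [Group G] (h : Nat.card G ∣ 3 ^ 2) (x y : G) :
    x * y = y * x := by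
  have := Fact.mk Nat.prime_three
  obtain ⟨k, hk, e⟩ := (Nat.dvd_prime_pow Nat.prime_three).1 h
  rcases hk.eq_or_lt with rfl | hk
  · exact (IsPGroup.isMulCommutative_of_card_eq_prime_sq e).is_comm.comm x y
  · exact (isCyclic_of_card_dvd_prime (p := 3)
      (e ▸ (pow_dvd_pow 3 (by omega : k ≤ 1)).trans (by decide))).commGroup.mul_comm x y

theorem eq_of_card_27 {G : Type*} [Group G] {R H : Subgroup G} (hR : Nat.card R = 27) (hH : H ≤ R)
    {a b : G} (ha : a ∈ H) (hb : b ∈ H) (h : a * b ≠ b * a) : H = R := by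
  have : Finite R := Nat.finite_of_card_ne_zero (by omega)
  obtain ⟨k, hk, e⟩ := (Nat.dvd_prime_pow Nat.prime_three (m := 3)).1 (hR ▸ card_dvd_of_le hH)
  rcases hk.eq_or_lt with rfl | hk
  · exact eq_of_le_of_card_ge hH (by rw [hR, e]; decide)
  · exact absurd (congrArg Subtype.val (comm_of_card_dvd_nine (e ▸ pow_dvd_pow 3 (by omega))
      (⟨a, ha⟩ : H) ⟨b, hb⟩)) h

theorem commutator_mem_center_27 {G : Type*} [Group G] (h : Nat.card G = 27) (a b : G) :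
    ⁅a, b⁆ ∈ center G := by
  have := Fact.mk Nat.prime_three
  have : Finite G := Nat.finite_of_card_ne_zero (by omega)
  have : Nontrivial G := Finite.one_lt_card_iff_nontrivial.1 (by omega)
  have h1 := Finite.one_lt_card_iff_nontrivial.2 (IsPGroup.of_card (p := 3) (n := 3) h).center_nontrivial
  have h2 := card_eq_card_quotient_mul_card_subgroup (center G)
  obtain ⟨k, hk, e⟩ := (Nat.dvd_prime_pow Nat.prime_three (m := 3)).1 (h ▸ Dvd.intro _ h2.symm)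
  rw [← QuotientGroup.eq_one_iff, ← QuotientGroup.mk'_apply, map_commutatorElement,
    commutatorElement_eq_one_iff_mul_comm]
  refine comm_of_card_dvd_nine (e ▸ pow_dvd_pow 3 ?_) _ _
  by_contra e1
  obtain rfl : k = 3 := by omega
  rw [h, e] at h2
  omega

theorem not_dvd_oS {Q : ℤ} (h : Q % 9 = 4 ∨ Q % 9 = 7) : ¬ 81 ∣ Q ^ 3 * oS Q 3 := by
  have key : ∀ x : ZMod 81, x.val % 9 = 4 ∨ x.val % 9 = 7 → x ^ 3 * ((x ^ 2 - 1) * (x ^ 3 - 1)) ≠ 0 := by
    decide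
  intro e
  refine key Q ?_ (by simpa [oS, Finset.prod_range_succ] using
    (ZMod.intCast_zmod_eq_zero_iff_dvd _ 81).2 e)
  have := ZMod.val_intCast (n := 81) Q
  omega

theorem exists_cube_root (F : Type*) [Field F] [Fintype F] (h : Fintype.card F % 3 = 1) :
    ∃ ζ : F, IsPrimitiveRoot ζ 3 := by
  have := Fact.mk Nat.prime_three
  obtain ⟨ζ, e⟩ := exists_prime_orderOf_dvd_card' (G := Fˣ) 3 (by
    rw [Nat.card_units, Nat.card_eq_fintype_card]; omega)
  exact ⟨ζ, IsPrimitiveRoot.coe_units_iff.2 (e ▸ IsPrimitiveRoot.orderOf ζ)⟩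

end Grp

variable {F K : Type*} [Field F] [Field K] [Algebra F K] {R G T : Subgroup (GL (Fin 3) F)}
  {a b P : GL (Fin 3) F} {ω : F} {p : ℕ} {Q : ℤ}

/-- The matrix with columns `v, b v, b² v`. -/
def cols (b : GL (Fin 3) F) (v : Fin 3 → F) : Matrix (Fin 3) (Fin 3) F :=
  Matrix.of fun i j => ((b ^ (j : ℕ)).1 *ᵥ v) i

/-- Standard generators of an extraspecial group of order 27. -/
structure Heis (R : Subgroup (GL (Fin 3) F)) (a b P : GL (Fin 3) F) (ω : F) : Prop where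
  prim : IsPrimitiveRoot ω 3
  card : Nat.card R = 27
  ma : a ∈ R
  mb : b ∈ R
  ea : (P⁻¹ * a * P).1 = diagonal ![1, ω, ω ^ 2]
  eb : (P⁻¹ * b * P).1 = !![0, 0, 1; 1, 0, 0; 0, 1, 0]

theorem omega_sum' (h : IsPrimitiveRoot ω 3) : ω ^ 2 + ω + 1 = 0 := by
  have := h.geom_sum_eq_zero (by decide)
  simp only [Finset.sum_range_succ, Finset.range_zero, Finset.sum_empty] at this
  linear_combination this

theorem exists_heis_vec (hR : Nat.card R = 27) (he : Monoid.exponent R = 3) (hna : ¬ IsMulCommutative R)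
    {ζ : F} (hζ : IsPrimitiveRoot ζ 3) : ∃ a ∈ R, ∃ b ∈ R, ∃ ω : F, IsPrimitiveRoot ω 3 ∧ b ^ 3 = 1 ∧
      ∃ v ≠ 0, ∀ j : ℕ, a.1 *ᵥ ((b ^ j).1 *ᵥ v) = ω ^ j • (b ^ j).1 *ᵥ v := by
  obtain ⟨a, b, hab⟩ : ∃ a b : R, a * b ≠ b * a := by
    by_contra e
    push Not at e
    exact hna ⟨⟨e⟩⟩
  have h3 : ∀ x : R, x.1 ^ 3 = 1 := fun x => congrArg Subtype.val (he ▸ Monoid.pow_exponent_eq_one x)
  have hc := mem_center_iff.1 (commutator_mem_center_27 hR a b)
  have e1 : a * b = ⁅a, b⁆ * (b * a) := by simp [commutatorElement_def]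
  have e2 : ⁅a, b⁆ ≠ 1 := fun e => hab (commutatorElement_eq_one_iff_mul_comm.1 e)
  generalize ⁅a, b⁆ = c at hc e1 e2
  have hs := omega_sum' hζ
  have hζ3 := hζ.pow_eq_one
  have c3 : c.1.1 ^ 3 = 1 := by simpa using congrArg Units.val (h3 c)
  obtain ⟨ω, hω, w, w0, hw⟩ : ∃ ω : F, IsPrimitiveRoot ω 3 ∧ ∃ w ≠ 0, c.1.1 *ᵥ w = ω • w := by
    obtain ⟨u, hu⟩ : ∃ u, (c.1.1 - 1) *ᵥ u ≠ 0 := by
      by_contra e
      push Not at e
      exact e2 (Subtype.ext (Units.ext (sub_eq_zero.1 (ext_of_mulVec_single fun i => (e _).trans (zero_mulVec _).symm))))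
    by_cases h4 : (c.1.1 - ζ ^ 2 • 1) *ᵥ ((c.1.1 - 1) *ᵥ u) = 0
    · refine ⟨ζ ^ 2, hζ.pow_of_coprime 2 (by decide), _, hu, ?_⟩
      rwa [sub_mulVec, smul_mulVec, one_mulVec, sub_eq_zero] at h4
    · refine ⟨ζ, hζ, _, h4, ?_⟩
      have : (c.1.1 - ζ • 1) * ((c.1.1 - ζ ^ 2 • 1) * (c.1.1 - 1)) = 0 := by
        rw [← sub_self (1 : Matrix (Fin 3) (Fin 3) F)]
        nth_rewrite 4 [← c3]
        simp only [pow_succ, pow_zero, mul_sub, sub_mul, mul_one, one_mul, smul_mul_assoc,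
          mul_smul_comm, mul_assoc]
        match_scalars
        · ring
        · linear_combination -hs
        · linear_combination hs + hζ3
        · linear_combination -hζ3
      have := congrArg (· *ᵥ u) this
      simp only [← mulVec_mulVec, zero_mulVec] at this
      rwa [sub_mulVec, smul_mulVec, one_mulVec, sub_eq_zero] at this
  have hcomm : ∀ (g : R) w, c.1.1 *ᵥ w = ω • w → c.1.1 *ᵥ (g.1.1 *ᵥ w) = ω • g.1.1 *ᵥ w :=
    fun g w h => by
      rw [mulVec_mulVec, ← Units.val_mul, ← coe_mul, ← hc, coe_mul, Units.val_mul, ← mulVec_mulVec, h,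
        mulVec_smul]
  have hab' : ∀ w, c.1.1 *ᵥ w = ω • w → a.1.1 *ᵥ (b.1.1 *ᵥ w) = ω • b.1.1 *ᵥ (a.1.1 *ᵥ w) :=
    fun w h => by
      rw [← hcomm b _ (hcomm a w h), mulVec_mulVec, mulVec_mulVec, mulVec_mulVec, ← Units.val_mul,
        ← Units.val_mul, ← Units.val_mul, ← coe_mul, e1, mul_assoc]
      rfl
  have a3 : ∀ w, a.1.1 *ᵥ (a.1.1 *ᵥ (a.1.1 *ᵥ w)) = w := fun w => by
    rw [mulVec_mulVec, mulVec_mulVec, ← pow_two, ← pow_succ, ← Units.val_pow_eq_pow_val, h3,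
      Units.val_one, one_mulVec]
  have binj : ∀ w, b.1.1 *ᵥ w = 0 → w = 0 := fun w h =>
    toLin'_unit_injective b.1 (by simpa using h)
  obtain ⟨w, hw, v0⟩ : ∃ w, c.1.1 *ᵥ w = ω • w ∧ w + a.1.1 *ᵥ w + a.1.1 *ᵥ (a.1.1 *ᵥ w) ≠ 0 := by
    by_contra e
    push Not at e
    have f0 := e w hw
    have f1 := e _ (hcomm b w hw)
    have f2 := e _ (hcomm b _ (hcomm b w hw))
    simp only [hab' w hw, hab' _ (hcomm b w hw), hab' _ (hcomm a w hw), mulVec_smul,
      hab' _ (hcomm b _ (hcomm a w hw))] at f1 f2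
    simp only [← mulVec_smul, ← mulVec_add] at f1 f2
    have g1 := binj _ f1
    have g2 := binj _ (binj _ f2)
    simp only [mulVec_smul] at g1 g2
    have h5 := omega_sum' hω
    have h6 := hω.pow_eq_one
    have h7 : (3 : F) ≠ 0 := fun e => hω.ne_one (by decide) (by
      have : (ω - 1) ^ 2 = 0 := by linear_combination h5 - ω * e
      exact sub_eq_zero.1 (pow_eq_zero_iff two_ne_zero |>.1 this))
    refine w0 (smul_right_injective _ h7 ?_)
    simp only [smul_zero]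
    rw [← add_zero (0 : Fin 3 → F), ← add_zero (0 + 0 : Fin 3 → F)]
    nth_rewrite 1 [← f0, ← g1]
    rw [← g2]
    match_scalars
    · ring
    · linear_combination -h5
    · linear_combination -h5 - ω * h6
  refine ⟨a, a.2, b, b.2, ω, hω, h3 b, _, v0, ?_⟩
  have v1 : c.1.1 *ᵥ (w + a.1.1 *ᵥ w + a.1.1 *ᵥ (a.1.1 *ᵥ w)) =
      ω • (w + a.1.1 *ᵥ w + a.1.1 *ᵥ (a.1.1 *ᵥ w)) := by
    simp only [mulVec_add, hw, hcomm a w hw, hcomm a _ (hcomm a w hw), smul_add]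
  have v2 : a.1.1 *ᵥ (w + a.1.1 *ᵥ w + a.1.1 *ᵥ (a.1.1 *ᵥ w)) =
      w + a.1.1 *ᵥ w + a.1.1 *ᵥ (a.1.1 *ᵥ w) := by
    simp only [mulVec_add, a3]
    abel
  generalize w + a.1.1 *ᵥ w + a.1.1 *ᵥ (a.1.1 *ᵥ w) = v at v1 v2
  intro j
  induction j with
  | zero => simpa using v2
  | succ j ih =>
    rw [pow_succ' b.1, Units.val_mul, ← mulVec_mulVec, hab' _ (show c.1.1 *ᵥ ((b.1 ^ j).1 *ᵥ v) =
      ω • (b.1 ^ j).1 *ᵥ v from hcomm (b ^ j) v v1), ih,
      mulVec_smul, smul_smul, pow_succ']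

theorem heis_of_vec (hR : Nat.card R = 27) (ha : a ∈ R) (hb : b ∈ R) (hω : IsPrimitiveRoot ω 3)
    (b3 : b ^ 3 = 1) {v : Fin 3 → F}
    (h : ∀ j : ℕ, a.1 *ᵥ ((b ^ j).1 *ᵥ v) = ω ^ j • (b ^ j).1 *ᵥ v) (hP : P.1 = cols b v) :
    Heis R a b P ω := by
  refine ⟨hω, hR, ha, hb, ?_, ?_⟩ <;>
    rw [Units.val_mul, Units.val_mul, mul_assoc, Units.inv_mul_eq_iff_eq_mul, hP] <;> ext i j
  · rw [mul_diagonal]
    change (a.1 *ᵥ ((b ^ (j : ℕ)).1 *ᵥ v)) i = _
    rw [h]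
    fin_cases j <;> simp [cols, mul_comm]
  · change (b.1 *ᵥ ((b ^ (j : ℕ)).1 *ᵥ v)) i = _
    rw [mulVec_mulVec, ← Units.val_mul, ← pow_succ']
    fin_cases j <;> simp [cols, mul_apply, Fin.sum_univ_three, b3, -Units.val_pow_eq_pow_val]

theorem isUnit_cols (hω : IsPrimitiveRoot ω 3) {v : Fin 3 → F} (hv : v ≠ 0)
    (h : ∀ j : ℕ, a.1 *ᵥ ((b ^ j).1 *ᵥ v) = ω ^ j • (b ^ j).1 *ᵥ v) : IsUnit (cols b v) :=
  linearIndependent_cols_iff_isUnit.1 (Module.End.eigenvectors_linearIndependent' (toLin' a.1)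
    (fun j : Fin 3 => ω ^ (j : ℕ)) (fun i j e => Fin.ext (hω.pow_inj i.2 j.2 e)) _ fun j =>
      ⟨mem_eigen_iff.2 (h j), fun e => hv (toLin'_unit_injective (b ^ (j : ℕ)) (by rw [map_zero]; exact e))⟩)

theorem exists_heis (hR : Nat.card R = 27) (he : Monoid.exponent R = 3) (hna : ¬ IsMulCommutative R)
    {ζ : F} (hζ : IsPrimitiveRoot ζ 3) : ∃ a b P ω, Heis R a b P ω := by
  obtain ⟨a, ha, b, hb, ω, hω, b3, v, hv, h⟩ := exists_heis_vec hR he hna hζ
  exact ⟨a, b, (isUnit_cols hω hv h).unit, ω, heis_of_vec hR ha hb hω b3 h rfl⟩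

theorem exists_heis_GU {q : ℕ} [U.UF F q] (hq : q % 3 = 2) (hU : R ≤ GU 3 F q) (hR : Nat.card R = 27)
    (he : Monoid.exponent R = 3) (hna : ¬ IsMulCommutative R) {ζ : F} (hζ : IsPrimitiveRoot ζ 3) :
    ∃ a b, ∃ P ∈ GU 3 F q, ∃ ω, Heis R a b P ω := by
  obtain ⟨a, ha, b, hb, ω, hω, b3, v, hv, h⟩ := exists_heis_vec hR he hna hζ
  have h1 : ∀ i j : Fin 3, hermForm 3 F q ((b ^ (i : ℕ)).1 *ᵥ v) ((b ^ (j : ℕ)).1 *ᵥ v) =
      if i = j then hermForm 3 F q v v else 0 := fun i j => by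
    split_ifs with e
    · exact e ▸ hU (R.pow_mem hb i) v v
    · have e1 := hU ha ((b ^ (i : ℕ)).1 *ᵥ v) ((b ^ (j : ℕ)).1 *ᵥ v)
      rw [Units.coeHom_apply, h, h, U.herm_smul_left, U.herm_smul_right, ← mul_assoc,
        mul_left_eq_self₀, U.conj_apply, ← pow_mul, ← pow_add, hω.pow_eq_one_iff_dvd] at e1
      refine e1.resolve_left fun e2 => e ?_
      have e3 : ((i : ℕ) + j * q) % 3 = (i + j * 2) % 3 := by rw [Nat.add_mod, Nat.mul_mod, hq]; simp
      have := i.2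
      have := j.2
      ext
      omega
  have h2 : ∀ t : F, Wall.cstar (U.conj F q) (cols b (t • v)) * cols b (t • v) =
      (t * U.conj F q t * hermForm 3 F q v v) • 1 := fun t => by
    ext i j
    have := h1 j i
    rw [U.herm_eq] at this
    simp only [mul_apply, Wall.cstar, cols, transpose_apply, map_apply, of_apply, mulVec_smul,
      Pi.smul_apply, smul_eq_mul, map_mul, Matrix.smul_apply, one_apply, mul_ite, mul_one, mul_zero]
    rw [if_congr eq_comm rfl rfl, ← mul_zero (t * U.conj F q t), ← mul_ite, ← this, Finset.mul_sum]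
    exact Finset.sum_congr rfl fun k _ => by ring
  have h3 : hermForm 3 F q v v ≠ 0 := fun e => by
    have := h2 1
    rw [e, mul_zero, zero_smul, one_smul] at this
    exact (((Wall.isAnti_cstar).isUnit (isUnit_cols hω hv h)).mul (isUnit_cols hω hv h)).ne_zero this
  obtain ⟨t, ht⟩ := U.exists_norm_eq (q := q) (μ := (hermForm 3 F q v v)⁻¹) (by rw [map_inv₀, U.herm_conj])
  have h4 : U.Pres q (cols b (t • v)) := Wall.pres_iff_cstar.2 (by
    rw [h2, ht, inv_mul_cancel₀ h3, one_smul])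
  exact ⟨a, b, _, (U.mkGU _ h4).2, ω, heis_of_vec hR ha hb hω b3 (v := t • v)
    (fun j => by simp only [mulVec_smul, h, smul_comm t]) rfl⟩

namespace Heis

variable (H : Heis R a b P ω)
include H

theorem rel : a.1 * b.1 = ω • (b.1 * a.1) := by
  have : (P⁻¹ * a * P).1 * (P⁻¹ * b * P).1 = ω • ((P⁻¹ * b * P).1 * (P⁻¹ * a * P).1) := by
    rw [H.ea, H.eb]
    ext i j
    have := H.prim.pow_eq_one
    rw [diagonal_mul, Matrix.smul_apply, mul_diagonal]
    fin_cases i <;> fin_cases j <;> simp [pow_two]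
    linear_combination -this
  simpa [mul_assoc] using congrArg (fun A => P.1 * A * (P⁻¹ : GL (Fin 3) F).1) this

theorem ne : a * b ≠ b * a := fun e => H.prim.ne_one (by decide)
  (smul_inj_of_unit (u := b * a) (by rw [one_smul, Units.val_mul, ← H.rel, ← Units.val_mul, e, Units.val_mul]))

theorem comm_val : (⁅a, b⁆ : GL (Fin 3) F).1 = ω • 1 := by
  rw [commutatorElement_def, Units.val_mul, Units.val_mul, Units.val_mul, H.rel]
  simp [mul_assoc]

theorem mem_normalizer {y : GL (Fin 3) F} (h1 : y * a * y⁻¹ ∈ R) (h2 : y * b * y⁻¹ ∈ R) :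
    y ∈ normalizer (R : Set (GL (Fin 3) F)) := by
  have : Finite R := Nat.finite_of_card_ne_zero (by rw [H.card]; decide)
  exact mem_normalizer_fintype fun g hg =>
    ((eq_of_card_27 (H := R ⊓ R.comap (MulAut.conj y).toMonoidHom) H.card inf_le_left ⟨H.ma, h1⟩
      ⟨H.mb, h2⟩ H.ne).ge hg).2

theorem scalar_of_comm {y : GL (Fin 3) F} (h1 : a * y = y * a) (h2 : b * y = y * b) :
    ∃ z : F, y.1 = z • 1 := by
  have e1 : (P⁻¹ * a * P).1 * (P⁻¹ * y * P).1 = (P⁻¹ * y * P).1 * (P⁻¹ * a * P).1 := by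
    rw [← Units.val_mul, ← Units.val_mul]
    simp [mul_assoc, ← mul_assoc a, h1]
  have e2 : (P⁻¹ * b * P).1 * (P⁻¹ * y * P).1 = (P⁻¹ * y * P).1 * (P⁻¹ * b * P).1 := by
    rw [← Units.val_mul, ← Units.val_mul]
    simp [mul_assoc, ← mul_assoc b, h2]
  rw [H.ea] at e1
  rw [H.eb] at e2
  refine ⟨(P⁻¹ * y * P).1 0 0, ?_⟩
  rw [← conj_smul_one P, show y = P * (P⁻¹ * y * P) * P⁻¹ by group, Units.val_mul, Units.val_mul]
  congr 2
  rw [show P⁻¹ * (P * (P⁻¹ * y * P) * P⁻¹) * P = P⁻¹ * y * P by group]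
  generalize (P⁻¹ * y * P).1 = Y at e1 e2
  have f1 := H.prim.ne_one (by decide)
  have f2 := H.prim.pow_ne_one_of_pos_of_lt (l := 2) (by decide) (by decide)
  have g1 := congrFun (congrFun e1 0) 1
  have g2 := congrFun (congrFun e1 0) 2
  rw [diagonal_mul, mul_diagonal, eq_comm] at g1 g2
  replace g1 : Y 0 1 = 0 := (mul_right_eq_self₀.1 (by simpa using g1)).resolve_left f1
  replace g2 : Y 0 2 = 0 := (mul_right_eq_self₀.1 (by simpa using g2)).resolve_left f2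
  have g3 := fun i j => congrFun (congrFun e2 i) j
  have g4 := g3 1 0
  have g5 := g3 1 1
  have g6 := g3 1 2
  have g7 := g3 2 0
  have g8 := g3 2 1
  have g9 := g3 2 2
  simp [mul_apply, Fin.sum_univ_three] at g4 g5 g6 g7 g8 g9
  clear e1 e2 g3
  ext i j
  fin_cases i <;> fin_cases j <;> simp_all

theorem not_good_large [Finite F] (hT : ∀ x ∈ T, x.1.det = 1) {r : ℕ} (hr : r.Prime) (h2 : r ≠ 2)
    (h3 : r ≠ 3) (hr' : r ∣ Nat.card T) (h : ∀ x ∈ T, (∃ z : F, (x ^ r).1 = z • 1) →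
      (∀ z : F, x.1 ≠ z • 1) → Good T R x) : False := by
  have := Fact.mk hr
  obtain ⟨⟨x, hx⟩, ho⟩ := exists_prime_orderOf_dvd_card' r hr'
  rw [Subgroup.orderOf_mk] at ho
  have h1 : x ^ r = 1 := ho ▸ pow_orderOf_eq_one x
  have hns : ∀ z : F, x.1 ≠ z • 1 := fun z hz => by
    have e1 : x ^ 3 = 1 := Units.ext (by
      have := hT x hx
      rw [hz, det_smul, Fintype.card_fin, det_one, mul_one] at this
      simp [hz, smul_pow, this])
    exact h3 ((Nat.prime_dvd_prime_iff_eq hr Nat.prime_three).1 (ho ▸ orderOf_dvd_of_pow_eq_one e1))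
  obtain ⟨g, g1, g2, g3⟩ := (h x hx ⟨1, by simp [h1]⟩ hns).exists h1 hns
  generalize g⁻¹ * x * g = y at g1 g2 g3
  have h4 := card_modEq_fixed hr g2 fun x => (mem_normalizer_iff.1 g1 x).1
  obtain ⟨k, hk, e⟩ := (Nat.dvd_prime_pow Nat.prime_three (m := 3)).1
    (H.card ▸ card_dvd_of_le (inf_le_left : R ⊓ centralizer {y} ≤ R))
  have h5 : ∀ i j, ¬ r ∣ 2 ^ i * 3 ^ j := fun i j e => ((Nat.Prime.dvd_mul hr).1 e).elim
    (fun e => h2 ((Nat.prime_dvd_prime_iff_eq hr Nat.prime_two).1 (hr.dvd_of_dvd_pow e)))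
    fun e => h3 ((Nat.prime_dvd_prime_iff_eq hr Nat.prime_three).1 (hr.dvd_of_dvd_pow e))
  rw [H.card, e] at h4
  have h6 := (Nat.modEq_iff_dvd' (Nat.pow_le_pow_right (by decide) hk)).1 h4.symm
  interval_cases k
  · have h7 : ⁅a, b⁆ ∈ R ⊓ centralizer {y} := ⟨R.mul_mem (R.mul_mem (R.mul_mem H.ma H.mb)
      (R.inv_mem H.ma)) (R.inv_mem H.mb), mem_centralizer_singleton_iff.2
        (Units.ext (by simp [H.comm_val]))⟩
    rw [card_eq_one.1 e, mem_bot] at h7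
    exact H.ne (commutatorElement_eq_one_iff_mul_comm.1 h7)
  · exact h5 3 1 h6
  · exact h5 1 2 h6
  · have h7 := eq_of_le_of_card_ge (inf_le_left : R ⊓ centralizer {y} ≤ R) (by rw [H.card, e]; decide)
    obtain ⟨z, hz⟩ := H.scalar_of_comm (mem_centralizer_singleton_iff.1 (h7.ge H.ma).2)
      (mem_centralizer_singleton_iff.1 (h7.ge H.mb).2)
    exact g3 z hz

omit H in
theorem conj_mem {Y u v : GL (Fin 3) F} (hv : v ∈ R)
    (h : Y.1 * (P⁻¹ * u * P).1 = (P⁻¹ * v * P).1 * Y.1) : P * Y * P⁻¹ * u * (P * Y * P⁻¹)⁻¹ ∈ R := by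
  rw [← Units.val_mul, ← Units.val_mul, Units.val_inj] at h
  rwa [show P * Y * P⁻¹ * u * (P * Y * P⁻¹)⁻¹ = P * (Y * (P⁻¹ * u * P)) * Y⁻¹ * P⁻¹ by group, h,
    show P * (P⁻¹ * v * P * Y) * Y⁻¹ * P⁻¹ = v by group]

theorem not_three_dvd [Finite F] (hT : R ≤ T) (h : ¬ 3 ^ 4 ∣ Nat.card T) :
    ¬ 3 ∣ (normalizer (R : Set (GL (Fin 3) F))).relIndex T := fun e => by
  have h1 := ((normalizer (R : Set (GL (Fin 3) F))).subgroupOf T).index_mul_card
  have h2 := card_dvd_of_le (subgroupOf_mono T (le_normalizer (H := R)))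
  rw [Nat.card_congr (subgroupOfEquivOfLe hT).toEquiv, H.card] at h2
  exact h (h1 ▸ mul_comm (Nat.card _) _ ▸ (mul_dvd_mul e h2 : 3 * 27 ∣ _))

theorem det_eq_one {g : GL (Fin 3) F} (hg : g ∈ R) : g.1.det = 1 := by
  have key : ∀ u : GL (Fin 3) F, (P⁻¹ * u * P).1.det = u.1.det := fun u => by
    rw [Units.val_mul, Units.val_mul, det_units_conj']
  refine mem_specialLinear.1 ((eq_of_card_27 (H := R ⊓ Geo.specialLinear (Fin 3) F) H.card inf_le_left
    ⟨H.ma, mem_specialLinear.2 ?_⟩ ⟨H.mb, mem_specialLinear.2 ?_⟩ H.ne).ge hg).2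
  · rw [← key, H.ea]
    simpa [Fin.prod_univ_three, ← pow_succ'] using H.prim.pow_eq_one
  · rw [← key, H.eb]
    simp [det_fin_three]

variable [Fintype F] [IsAlgClosed K] [CharP K p]

theorem good_two (hp : p.Prime) (h2 : p ≠ 2) (A : Amb K G T p Q) (hP : P ∈ G)
    (hU : ∀ Y : GL (Fin 3) F, Y.1 = !![-1, 0, 0; 0, 0, -1; 0, -1, 0] → Y ∈ G)
    {x : GL (Fin 3) F} (hx : x ∈ T) {z : F} (hz : (x ^ 2).1 = z • 1) (hns : ∀ z : F, x.1 ≠ z • 1) :
    Good T R x := by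
  obtain ⟨x, hx, h1, hns, h3⟩ := exists_reduce (R := R) hx (A.det x hx) (k := 1) (by simp) hz hns
  refine h3 ?_
  have h4 : ¬ p ∣ 2 := fun e => h2 ((Nat.prime_dvd_prime_iff_eq hp Nat.prime_two).1 e)
  have key : ∀ x : GL (Fin 3) F, x ^ 2 = 1 → x.1.det = 1 → (∀ z : F, x.1 ≠ z • 1) →
      jm K x.1 = ss {1, -1, -1} := fun x h1 h5 hns => by
    obtain ⟨m, m1, m2, m3, m4⟩ := exists_ss (K := K) hp h4 (z := 1)
      (by simpa using congrArg Units.val h1) hns
    have m5 := det_ss m1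
    rw [h5, map_one, eq_comm, Units.val_eq_one] at m5
    have m6 : ∀ α ∈ m, α = 1 ∨ α = -1 := fun α h =>
      (sq_eq_one_iff.1 ((m3 α h).trans (map_one _))).imp Units.ext Units.ext
    have m7 : (-1 : Kˣ) ≠ 1 := fun e => not_cast_eq_zero (K := K) h4 (by
      have := congrArg Units.val e
      simp only [Units.val_neg, Units.val_one] at this
      push_cast
      linear_combination -this)
    rw [m1]
    congr 1
    obtain ⟨a, b, c, rfl⟩ := Multiset.card_eq_three.1 m2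
    simp only [Multiset.insert_eq_cons, Multiset.mem_cons, Multiset.mem_singleton, forall_eq_or_imp,
      forall_eq] at m6 m4
    simp only [Multiset.insert_eq_cons, ← Multiset.singleton_add] at m5 ⊢
    obtain ⟨ha | ha, hb | hb, hc | hc⟩ := m6 <;> rw [ha, hb, hc] at m4 m5 ⊢ <;>
      first | ac_rfl | simp [m7] at m4 m5
  let Y : GL (Fin 3) F := ⟨!![-1, 0, 0; 0, 0, -1; 0, -1, 0], !![-1, 0, 0; 0, 0, -1; 0, -1, 0],
    by simp [one_fin_three], by simp [one_fin_three]⟩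
  have hω := H.prim.pow_eq_one
  have e : ∀ u : GL (Fin 3) F, P⁻¹ * (u * u) * P = P⁻¹ * u * P * (P⁻¹ * u * P) := fun u => by group
  refine A.good (A.le hx) (G.mul_mem (G.mul_mem hP (hU Y rfl)) (G.inv_mem hP))
    (H.mem_normalizer (conj_mem (R.mul_mem H.ma H.ma) ?_) (conj_mem (R.mul_mem H.mb H.mb) ?_)) h4
    (z := 1) (by simpa using congrArg Units.val h1) ?_
  · rw [e, Units.val_mul (P⁻¹ * a * P), H.ea]
    ext i j
    fin_cases i <;> fin_cases j <;> simp [Y, mul_apply, Fin.sum_univ_three, pow_two]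
    linear_combination (-ω) * hω
  · rw [e, Units.val_mul (P⁻¹ * b * P), H.eb]
    simp [Y]
  · rw [key x h1 (A.det x hx) hns, show P * Y * P⁻¹ = P⁻¹⁻¹ * Y * P⁻¹ by rw [inv_inv], jm_conj, key Y
      (Units.ext (by simp [Y, pow_two, one_fin_three])) (by simp [Y, det_fin_three]) fun z hz => ?_]
    simpa [Y] using congrFun (congrFun hz 1) 2

theorem good_three [CharP F p] (hp : p.Prime) (h3 : p ≠ 3) (A : Amb K G T p Q) (hP : P ∈ G)
    (hQ : Q % 9 = 1)
    (hD : ∀ (Y : GL (Fin 3) F) (d : Fin 3 → F), (∀ i, d i ^ 3 = 1) → Y.1 = diagonal d → Y ∈ G)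
    (hsc : ∀ s : Kˣ, s ^ Q = s → ∃ u ∈ G, ∃ σ : F, u.1 = σ • 1 ∧ algebraMap F K σ = s)
    {x : GL (Fin 3) F} (hx : x ∈ T) {z : F} (hz : (x ^ 3).1 = z • 1) (hns : ∀ z : F, x.1 ≠ z • 1) :
    Good T R x := by
  have h4 : ¬ p ∣ 3 := fun e => h3 ((Nat.prime_dvd_prime_iff_eq hp Nat.prime_three).1 e)
  have h1 : z ^ 3 = 1 := by simpa [A.det x hx] using (congrArg det hz).symm
  obtain ⟨m, m1, m2, m3, -⟩ := exists_ss (K := K) hp h4 hz hns
  obtain ⟨α, β, γ, rfl⟩ := Multiset.card_eq_three.1 m2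
  obtain ⟨u, hu, σ, u1, u2⟩ := hsc α (by
    simpa using zpow_eq_pow_of_emod (k := 9) (j := 1) (Units.ext (by
      rw [Units.val_pow_eq_pow_val, show 9 = 3 * 3 from rfl, pow_mul, m3 α (by simp), ← map_pow, h1,
        map_one, Units.val_one])) hQ)
  have hω := H.prim.map_of_injective (f := algebraMap F K) (algebraMap F K).injective
  have key : ∀ δ ∈ ({α, β, γ} : Multiset Kˣ), ∃ s < 3, (δ : K) = α * algebraMap F K ω ^ s :=
    fun δ hδ => by
      obtain ⟨s, hs, e⟩ := hω.eq_pow_of_pow_eq_one (ξ := (δ : K) / α) (by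
        rw [div_pow, m3 δ hδ, ← m3 α (by simp), div_self (pow_ne_zero _ α.ne_zero)])
      exact ⟨s, hs, by rw [e, mul_div_cancel₀ _ α.ne_zero]⟩
  obtain ⟨s, hs, e1⟩ := key β (by simp)
  obtain ⟨t, ht, e2⟩ := key γ (by simp)
  have w3 := H.prim.pow_eq_one
  have w0 := H.prim.ne_zero (by decide)
  have σ0 : σ ≠ 0 := fun e => α.ne_zero (by simp [← u2, e])
  let d : Fin 3 → Fˣ := ![1, Units.mk0 ω w0 ^ s, Units.mk0 ω w0 ^ t]
  let Y : GL (Fin 3) F := ⟨diagonal fun i => d i, diagonal fun i => (d i)⁻¹, by simp, by simp⟩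
  have hY : Y ∈ G := hD Y _ (fun i => by
    fin_cases i <;> simp [d, pow_right_comm ω _ 3, w3]) rfl
  refine A.good (A.le hx) (G.mul_mem hu (G.mul_mem (G.mul_mem hP hY) (G.inv_mem hP)))
    (mul_mem (scalar_mem_normalizer u1) (H.mem_normalizer (conj_mem H.ma ?_) (conj_mem
      (v := ⁅a, b⁆ ^ (2 * t) * a ^ (s + t) * b) (R.mul_mem (R.mul_mem (R.pow_mem (R.mul_mem (R.mul_mem
        (R.mul_mem H.ma H.mb) (R.inv_mem H.ma)) (R.inv_mem H.mb)) _) (R.pow_mem H.ma _)) H.mb) ?_)))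
    h4 hz ?_
  · rw [H.ea]
    simp [Y, mul_comm]
  · rw [show P⁻¹ * (⁅a, b⁆ ^ (2 * t) * a ^ (s + t) * b) * P =
      (P⁻¹ * ⁅a, b⁆ * P) ^ (2 * t) * (P⁻¹ * a * P) ^ (s + t) * (P⁻¹ * b * P) by
        have := fun u k => conj_pow (i := k) (a := P⁻¹) (b := u)
        rw [inv_inv] at this
        rw [this, this]
        group]
    have e3 : (P⁻¹ * ⁅a, b⁆ * P).1 = ω • 1 := by simp [H.comm_val]
    rw [Units.val_mul _ (P⁻¹ * b * P), Units.val_mul _ (_ ^ (s + t)), Units.val_pow_eq_pow_val,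
      Units.val_pow_eq_pow_val, e3, H.ea, H.eb]
    ext i j
    fin_cases i <;> fin_cases j <;>
      simp [Y, d, mul_apply, diagonal_pow, smul_pow, diagonal_apply]
    on_goal 1 => rw [← pow_zero ω]
    all_goals
      simp only [← pow_mul, ← pow_add]
      rw [pow_eq_pow_mod _ w3, eq_comm, pow_eq_pow_mod _ w3]
      congr 1
      omega
  · have e3 : u * (P * Y * P⁻¹) = P⁻¹⁻¹ * (u * Y) * P⁻¹ := Units.ext (by simp [u1, mul_assoc])
    have e4 : (u * Y).1 = diagonal fun i => ((Units.mk0 σ σ0 * d i : Fˣ) : F) := by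
      rw [Units.val_mul, u1, smul_mul_assoc, one_mul, ← diagonal_smul]
      rfl
    rw [m1, e3, jm_conj, e4, jm_diagonal hp]
    congr 1
    rw [show β = α * Units.map (algebraMap F K : F →* K) (d 1) from Units.ext (by simp [d, e1]),
      show γ = α * Units.map (algebraMap F K : F →* K) (d 2) from Units.ext (by simp [d, e2]),
      show α = Units.map (algebraMap F K : F →* K) (Units.mk0 σ σ0) from Units.ext u2.symm]
    simp [d, Fin.univ_succ]

end Heis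

end Cfsg.Agent.Class.C6
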